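import Cfsg.Agent.DCoset.Th.Simple
import Cfsg.Agent.ThMat.Main

/-!
The presented Thompson group is not too small: its 248-dimensional image has order divisible by
90745943887872000.
-/

set_option autoImplicit false

namespace Cfsg.Agent.DCoset.Th

/-- A homomorphic image of sufficient order gives the lower bound. -/
theorem big_of_hom {M : Type*} [Group M] (f : GTh →* M)
    (h : 90745943887872000 ∣ Nat.card f.range) : Big := by
  have := th_finite.1
  have h1 : Nat.card f.range ≤ Nat.card GTh :=
    Nat.card_le_card_of_surjective f.rangeRestrict f.rangeRestrict_surjective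
  have : Finite f.range := Finite.of_surjective f.rangeRestrict f.rangeRestrict_surjective
  exact (Nat.le_of_dvd Nat.card_pos h).trans h1

/-- The lower bound holds. -/
theorem big : Big := big_of_hom Cfsg.Agent.ThMat.thRep Cfsg.Agent.ThMat.card_dvd

end Cfsg.Agent.DCoset.Th
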