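import Cfsg.Agent.DCoset.Th.CoverDefs

/-! Generated by tools/dcoset/emit.py: forests and chains. -/

set_option Elab.async false
set_option maxRecDepth 100000

namespace Cfsg.Agent.DCoset.Th

open Cfsg.Agent.DCoset Cfsg.Agent.CosetCert

theorem point_2_0 : allFrom (WalkCover.checkPoint cover steps rules tab 2) 0 2500 = true := by
  decide +kernel

theorem point_2_1 : allFrom (WalkCover.checkPoint cover steps rules tab 2) 2500 2500 = true := by
  decide +kernel

theorem point_2_2 : allFrom (WalkCover.checkPoint cover steps rules tab 2) 5000 2500 = true := by
  decide +kernel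

theorem point_2_3 : allFrom (WalkCover.checkPoint cover steps rules tab 2) 7500 2500 = true := by
  decide +kernel

theorem point_2_4 : allFrom (WalkCover.checkPoint cover steps rules tab 2) 10000 2500 = true := by
  decide +kernel

theorem point_2_5 : allFrom (WalkCover.checkPoint cover steps rules tab 2) 12500 2500 = true := by
  decide +kernel

theorem point_2_6 : allFrom (WalkCover.checkPoint cover steps rules tab 2) 15000 2199 = true := by
  decide +kernel

theorem gen_2 : allFrom (fun l => allFrom (QModel.checkGen tab (chainOf 2) l) 0 ((chainOf 2).nGen l)) 0 5 = true := by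
  decide +kernel

theorem pt_2 : allFrom (fun l => allFrom (QModel.checkPt tab (chainOf 2) l) 0 ((chainOf 2).size l)) 0 5 = true := by
  decide +kernel

end Cfsg.Agent.DCoset.Th
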