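import Cfsg.Agent.DCoset.Th.StepDefs

/-! Generated by tools/dcoset/emit.py: steps are justified. -/

set_option Elab.async false
set_option maxRecDepth 100000

namespace Cfsg.Agent.DCoset.Th

open Cfsg.Agent.DCoset Cfsg.Agent.CosetCert

theorem steps_24 : allFrom (Steps.check steps rules tab) 36000 1500 = true := by
  decide +kernel

theorem steps_25 : allFrom (Steps.check steps rules tab) 37500 1500 = true := by
  decide +kernel

theorem steps_26 : allFrom (Steps.check steps rules tab) 39000 1500 = true := by
  decide +kernel

theorem steps_27 : allFrom (Steps.check steps rules tab) 40500 1500 = true := by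
  decide +kernel


end Cfsg.Agent.DCoset.Th
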