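import Cfsg.Agent.DCoset.Th.CheckSteps0
import Cfsg.Agent.DCoset.Th.CheckSteps1
import Cfsg.Agent.DCoset.Th.CheckSteps2
import Cfsg.Agent.DCoset.Th.CheckSteps3
import Cfsg.Agent.DCoset.Th.CheckSteps4
import Cfsg.Agent.DCoset.Th.CheckSteps5
import Cfsg.Agent.DCoset.Th.CheckSteps6
import Cfsg.Agent.DCoset.Th.CheckSteps7
import Cfsg.Agent.DCoset.Th.CheckSteps8
import Cfsg.Agent.DCoset.Th.CheckSteps9
import Cfsg.Agent.DCoset.Th.CheckSteps10
import Cfsg.Agent.DCoset.Th.CheckSteps11
import Cfsg.Agent.DCoset.Th.CheckSteps12
import Cfsg.Agent.DCoset.Th.CheckTr0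
import Cfsg.Agent.DCoset.Th.CheckTr1
import Cfsg.Agent.DCoset.Th.CheckTr2
import Cfsg.Agent.DCoset.Th.CheckTr3
import Cfsg.Agent.DCoset.Th.CheckTr4
import Cfsg.Agent.DCoset.Th.CheckNode0
import Cfsg.Agent.DCoset.Th.CheckNode1
import Cfsg.Agent.DCoset.Th.CheckNode2
import Cfsg.Agent.DCoset.Th.CheckNode3
import Cfsg.Agent.DCoset.Th.CheckNode4
import Cfsg.Agent.DCoset.Th.CheckNode5
import Cfsg.Agent.DCoset.Th.CheckNode6
import Cfsg.Agent.DCoset.Th.CheckNode7
import Cfsg.Agent.DCoset.Th.CheckNode8
import Cfsg.Agent.DCoset.Th.CheckNode9
import Cfsg.Agent.DCoset.Th.CheckNode10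
import Cfsg.Agent.DCoset.Th.CheckCover

/-! Generated by tools/dcoset/emit.py: assembled certificate. -/

set_option Elab.async false
set_option maxRecDepth 100000

namespace Cfsg.Agent.DCoset.Th

open Cfsg.Agent.DCoset Cfsg.Agent.CosetCert

theorem steps_ok : ∀ s, s < steps.len → Steps.check steps rules tab s = true := by
  intro s hs
  have h : allFrom (Steps.check steps rules tab) 0 75151 = true :=
    (allFrom_append (n := 151) 75000 (allFrom_append (n := 1500) 73500 (allFrom_append (n := 1500) 72000 (allFrom_append (n := 1500) 70500 (allFrom_append (n := 1500) 69000 (allFrom_append (n := 1500) 67500 (allFrom_append (n := 1500) 66000 (allFrom_append (n := 1500) 64500 (allFrom_append (n := 1500) 63000 (allFrom_append (n := 1500) 61500 (allFrom_append (n := 1500) 60000 (allFrom_append (n := 1500) 58500 (allFrom_append (n := 1500) 57000 (allFrom_append (n := 1500) 55500 (allFrom_append (n := 1500) 54000 (allFrom_append (n := 1500) 52500 (allFrom_append (n := 1500) 51000 (allFrom_append (n := 1500) 49500 (allFrom_append (n := 1500) 48000 (allFrom_append (n := 1500) 46500 (allFrom_append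 (n := 1500) 45000 (allFrom_append (n := 1500) 43500 (allFrom_append (n := 1500) 42000 (allFrom_append (n := 1500) 40500 (allFrom_append (n := 1500) 39000 (allFrom_append (n := 1500) 37500 (allFrom_append (n := 1500) 36000 (allFrom_append (n := 1500) 34500 (allFrom_append (n := 1500) 33000 (allFrom_append (n := 1500) 31500 (allFrom_append (n := 1500) 30000 (allFrom_append (n := 1500) 28500 (allFrom_append (n := 1500) 27000 (allFrom_append (n := 1500) 25500 (allFrom_append (n := 1500) 24000 (allFrom_append (n := 1500) 22500 (allFrom_append (n := 1500) 21000 (allFrom_append (n := 1500) 19500 (allFrom_append (n := 1500) 18000 (allFrom_append (n := 1500) 16500 (allFrom_append (n := 1500) 15000 (allFrom_append (n := 1500) 13500 (allFrom_append (n := 1500) 12000 (allFrom_append (n := 1500) 10500 (allFrom_append (n := 1500) 9000 (allFrom_append (n := 1500) 7500 (allFrom_append (n := 1500) 6000 (allFrom_append (n := 1500) 4500 (allFrom_append (n := 1500) 3000 (allFrom_append (n := 1500) 1500 steps_0 steps_1) steps_2) steps_3) steps_4) steps_5) steps_6) steps_7) steps_8) steps_9) steps_10)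 steps_11) steps_12) steps_13) steps_14) steps_15) steps_16) steps_17) steps_18) steps_19) steps_20) steps_21) steps_22) steps_23) steps_24) steps_25) steps_26) steps_27) steps_28) steps_29) steps_30) steps_31) steps_32) steps_33) steps_34) steps_35) steps_36) steps_37) steps_38) steps_39) steps_40) steps_41) steps_42) steps_43) steps_44) steps_45) steps_46) steps_47) steps_48) steps_49) steps_50)
  exact allFrom_all h hs

theorem node_src : ∀ j, 1 ≤ j → j < steps.nNode → steps.nodeSrc j < j := fun j h1 h2 =>
  Nat.ble_eq.mp ((allFrom_iff _ _ _).1 src_all j h1 (by change j < 11 at h2; omega))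

/-- The sum of the suborbit lengths. -/
theorem idx_sum : ((List.range cover.nLive).map cover.idx).sum = 143127000 := by
  decide +kernel

theorem valid : cover.Valid steps rules tab 634023936 where
  nP_pos := by decide
  nG_le := by decide
  live_zero := ⟨by decide, by decide +kernel⟩
  u_ok l hl := allFrom_all u_all hl
  tr_ok c hc := allFrom_all ((allFrom_append (n := 99) 17100 (allFrom_append (n := 900) 16200 (allFrom_append (n := 900) 15300 (allFrom_append (n := 900) 14400 (allFrom_append (n := 900) 13500 (allFrom_append (n := 900) 12600 (allFrom_append (n := 900) 11700 (allFrom_append (n := 900) 10800 (allFrom_append (n := 900) 9900 (allFrom_append (n := 900) 9000 (allFrom_append (n := 900) 8100 (allFrom_append (n := 900) 7200 (allFrom_append (n := 900) 6300 (allFrom_append (n := 900) 5400 (allFrom_append (n := 900) 4500 (allFrom_append (n := 900) 3600 (allFrom_append (n := 900) 2700 (allFrom_append (n := 900) 1800 (allFrom_append (n := 900) 900 tr_0 tr_1) tr_2) tr_3) tr_4) tr_5) tr_6) tr_7) tr_8) tr_9) tr_10) tr_11) tr_12) tr_13) tr_14) tr_15) tr_16) tr_17) tr_18) tr_19)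 : allFrom (WalkCover.checkTr cover tab) 0 17199 = true) hc
  stab_ok m a hm ha := allFrom_all (allFrom_all stab_all hm : allFrom _ 0 (nStab m) = true) ha
  point_ok m c hm hc := by
    change m < 11 at hm
    interval_cases m
    · exact allFrom_all ((allFrom_append (n := 2199) 15000 (allFrom_append (n := 2500) 12500 (allFrom_append (n := 2500) 10000 (allFrom_append (n := 2500) 7500 (allFrom_append (n := 2500) 5000 (allFrom_append (n := 2500) 2500 point_0_0 point_0_1) point_0_2) point_0_3) point_0_4) point_0_5) point_0_6) : allFrom (WalkCover.checkPoint cover steps rules tab 0) 0 17199 = true) hc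
    · exact allFrom_all ((allFrom_append (n := 2199) 15000 (allFrom_append (n := 2500) 12500 (allFrom_append (n := 2500) 10000 (allFrom_append (n := 2500) 7500 (allFrom_append (n := 2500) 5000 (allFrom_append (n := 2500) 2500 point_1_0 point_1_1) point_1_2) point_1_3) point_1_4) point_1_5) point_1_6) : allFrom (WalkCover.checkPoint cover steps rules tab 1) 0 17199 = true) hc
    · exact allFrom_all ((allFrom_append (n := 2199) 15000 (allFrom_append (n := 2500) 12500 (allFrom_append (n := 2500) 10000 (allFrom_append (n := 2500) 7500 (allFrom_append (n := 2500) 5000 (allFrom_append (n := 2500) 2500 point_2_0 point_2_1) point_2_2) point_2_3) point_2_4) point_2_5) point_2_6) : allFrom (WalkCover.checkPoint cover steps rules tab 2) 0 17199 = true) hc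
    · exact allFrom_all ((allFrom_append (n := 2199) 15000 (allFrom_append (n := 2500) 12500 (allFrom_append (n := 2500) 10000 (allFrom_append (n := 2500) 7500 (allFrom_append (n := 2500) 5000 (allFrom_append (n := 2500) 2500 point_3_0 point_3_1) point_3_2) point_3_3) point_3_4) point_3_5) point_3_6) : allFrom (WalkCover.checkPoint cover steps rules tab 3) 0 17199 = true) hc
    · exact allFrom_all ((allFrom_append (n := 2199) 15000 (allFrom_append (n := 2500) 12500 (allFrom_append (n := 2500) 10000 (allFrom_append (n := 2500) 7500 (allFrom_append (n := 2500) 5000 (allFrom_append (n := 2500) 2500 point_4_0 point_4_1) point_4_2) point_4_3) point_4_4) point_4_5) point_4_6) : allFrom (WalkCover.checkPoint cover steps rules tab 4) 0 17199 = true) hc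
    · exact allFrom_all ((allFrom_append (n := 2199) 15000 (allFrom_append (n := 2500) 12500 (allFrom_append (n := 2500) 10000 (allFrom_append (n := 2500) 7500 (allFrom_append (n := 2500) 5000 (allFrom_append (n := 2500) 2500 point_5_0 point_5_1) point_5_2) point_5_3) point_5_4) point_5_5) point_5_6) : allFrom (WalkCover.checkPoint cover steps rules tab 5) 0 17199 = true) hc
    · exact allFrom_all ((allFrom_append (n := 2199) 15000 (allFrom_append (n := 2500) 12500 (allFrom_append (n := 2500) 10000 (allFrom_append (n := 2500) 7500 (allFrom_append (n := 2500) 5000 (allFrom_append (n := 2500) 2500 point_6_0 point_6_1) point_6_2) point_6_3) point_6_4) point_6_5) point_6_6) : allFrom (WalkCover.checkPoint cover steps rules tab 6) 0 17199 = true) hc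
    · exact allFrom_all ((allFrom_append (n := 2199) 15000 (allFrom_append (n := 2500) 12500 (allFrom_append (n := 2500) 10000 (allFrom_append (n := 2500) 7500 (allFrom_append (n := 2500) 5000 (allFrom_append (n := 2500) 2500 point_7_0 point_7_1) point_7_2) point_7_3) point_7_4) point_7_5) point_7_6) : allFrom (WalkCover.checkPoint cover steps rules tab 7) 0 17199 = true) hc
    · exact allFrom_all ((allFrom_append (n := 2199) 15000 (allFrom_append (n := 2500) 12500 (allFrom_append (n := 2500) 10000 (allFrom_append (n := 2500) 7500 (allFrom_append (n := 2500) 5000 (allFrom_append (n := 2500) 2500 point_8_0 point_8_1) point_8_2) point_8_3) point_8_4) point_8_5) point_8_6) : allFrom (WalkCover.checkPoint cover steps rules tab 8) 0 17199 = true) hc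
    · exact allFrom_all ((allFrom_append (n := 2199) 15000 (allFrom_append (n := 2500) 12500 (allFrom_append (n := 2500) 10000 (allFrom_append (n := 2500) 7500 (allFrom_append (n := 2500) 5000 (allFrom_append (n := 2500) 2500 point_9_0 point_9_1) point_9_2) point_9_3) point_9_4) point_9_5) point_9_6) : allFrom (WalkCover.checkPoint cover steps rules tab 9) 0 17199 = true) hc
    · exact allFrom_all ((allFrom_append (n := 2199) 15000 (allFrom_append (n := 2500) 12500 (allFrom_append (n := 2500) 10000 (allFrom_append (n := 2500) 7500 (allFrom_append (n := 2500) 5000 (allFrom_append (n := 2500) 2500 point_10_0 point_10_1) point_10_2) point_10_3) point_10_4) point_10_5) point_10_6) : allFrom (WalkCover.checkPoint cover steps rules tab 10) 0 17199 = true) hc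
  chain_gen m l a hm hl ha := by
    change m < 11 at hm
    interval_cases m
    · exact allFrom_all (allFrom_all gen_0 hl : _) ha
    · exact allFrom_all (allFrom_all gen_1 hl : _) ha
    · exact allFrom_all (allFrom_all gen_2 hl : _) ha
    · exact allFrom_all (allFrom_all gen_3 hl : _) ha
    · exact allFrom_all (allFrom_all gen_4 hl : _) ha
    · exact allFrom_all (allFrom_all gen_5 hl : _) ha
    · exact allFrom_all (allFrom_all gen_6 hl : _) ha
    · exact allFrom_all (allFrom_all gen_7 hl : _) ha
    · exact allFrom_all (allFrom_all gen_8 hl : _) ha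
    · exact allFrom_all (allFrom_all gen_9 hl : _) ha
    · exact allFrom_all (allFrom_all gen_10 hl : _) ha
  chain_pt m l j hm hl hj := by
    change m < 11 at hm
    interval_cases m
    · exact allFrom_all (allFrom_all pt_0 hl : _) hj
    · exact allFrom_all (allFrom_all pt_1 hl : _) hj
    · exact allFrom_all (allFrom_all pt_2 hl : _) hj
    · exact allFrom_all (allFrom_all pt_3 hl : _) hj
    · exact allFrom_all (allFrom_all pt_4 hl : _) hj
    · exact allFrom_all (allFrom_all pt_5 hl : _) hj
    · exact allFrom_all (allFrom_all pt_6 hl : _) hj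
    · exact allFrom_all (allFrom_all pt_7 hl : _) hj
    · exact allFrom_all (allFrom_all pt_8 hl : _) hj
    · exact allFrom_all (allFrom_all pt_9 hl : _) hj
    · exact allFrom_all (allFrom_all pt_10 hl : _) hj
  chain_mem m l a hm hl ha := by
    refine ⟨chOff (m * 5 + l) + a, ?_, rfl⟩
    have h := Nat.ble_eq.mp (allFrom_all (allFrom_all bounds_all hm : allFrom _ 0 5 = true) hl)
    change a < chCnt (m * 5 + l) at ha
    change chOff (m * 5 + l) + chCnt (m * 5 + l) ≤ nStab m at h
    change chOff (m * 5 + l) + a < nStab m
    omega
  idx_eq := by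
    intro m hm
    change m < 11 at hm
    interval_cases m
    · decide +kernel
    · decide +kernel
    · decide +kernel
    · decide +kernel
    · decide +kernel
    · decide +kernel
    · decide +kernel
    · decide +kernel
    · decide +kernel
    · decide +kernel
    · decide +kernel

end Cfsg.Agent.DCoset.Th
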