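import Cfsg.Agent.CosetCert.ThChain1.Main
import Cfsg.Agent.CosetCert.ThChain2.Main
import Cfsg.Agent.CosetCert.ThChain3.Main

/-!
The group on `a b c d e s t` presented by the first three families of relators of Th has order at
most 634023936: three coset enumerations (12096, 17472, 3).
-/

namespace Cfsg.Agent.DCoset.Th

open Cfsg.Agent.CosetCert

set_option maxRecDepth 100000

/-- The relators without `u`, in seven numbered generators `a b c d e s t`. -/
abbrev HRels : List (List (Fin 7 × Bool)) := ThChain1.relWords

/-- The presented group on seven generators. -/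
abbrev HGroup : Type := PresentedGroup (wordRels HRels)

theorem sub_rels₂ :
    ∀ l ∈ ThChain2.relWords, (l.map fun a => ((Fin.castSucc a.1 : Fin 7), a.2)) ∈ HRels := by
  decide +kernel

theorem sub_rels₃ :
    ∀ l ∈ ThChain3.relWords, (l.map fun a => ((Fin.castLE (by decide) a.1 : Fin 7), a.2)) ∈ HRels := by
  decide +kernel

theorem hgroup_card : Finite HGroup ∧ Nat.card HGroup ≤ 634023936 := by
  have h0 := letterSub_nil_card (wordRels HRels)
  have h1 := letterSub_card_le (rels := wordRels HRels) (RL := ThChain3.relWords)
    (Fin.castLE (by decide) : Fin 5 → Fin 7) (List.finRange 5) ThChain3.subLetters [] rfl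
    List.mem_finRange (fun l hl => PresentedGroup.one_of_mem (List.mem_map_of_mem (sub_rels₃ l hl)))
    ThChain3.index_bound h0
  have h2 := letterSub_card_le (rels := wordRels HRels) (RL := ThChain2.relWords)
    (Fin.castSucc : Fin 6 → Fin 7) (List.finRange 6) ThChain2.subLetters
    ((List.finRange 5).map (Fin.castLE (by decide) : Fin 5 → Fin 7)) (by decide +kernel)
    List.mem_finRange (fun l hl => PresentedGroup.one_of_mem (List.mem_map_of_mem (sub_rels₂ l hl)))
    ThChain2.index_bound h1
  obtain ⟨hf, hc⟩ := card_le_top ((List.finRange 6).map (Fin.castSucc : Fin 6 → Fin 7))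
    (by decide +kernel) ThChain1.index_bound h2
  exact ⟨hf, hc.trans (le_of_eq (by norm_num))⟩

end Cfsg.Agent.DCoset.Th
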