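import Cfsg.Agent.DCoset.Th.Ident
import Cfsg.Agent.DCoset.Th.SimpleData

/-!
A nontrivial normal subgroup of the group on `a b c d e s t` contains `a, b, c, d, e, s`: it is
transitive on the 819 points, the stabiliser of a point centralises the conjugate of `a` attached
to it, and `a` is the fourth power of `c d`.
-/

set_option autoImplicit false
set_option maxRecDepth 100000

namespace Cfsg.Agent.DCoset.Th

open Cfsg.Agent.DCoset Cfsg.Agent.CosetCert

/-- The right action on the points. -/
noncomputable def img (q : HGroup) (p : Fin 819) : Fin 819 := (rho q)⁻¹ p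

theorem img_one (p : Fin 819) : img 1 p = p := by simp [img]

theorem img_mul (x y : HGroup) (p : Fin 819) : img (x * y) p = img y (img x p) := by
  simp [img, mul_inv_rev]

theorem img_el {w : Nat} (hw : tab.okWord w = true) (p : Fin 819) :
    (img (model.el w) p).val = actW tab.act p.val w :=
  (acts.foldW_eq _ _ p hw).symm

/-- The conjugate of `a` attached to a point. -/
noncomputable def cnj (p : Fin 819) : HGroup := model.el (ptWS.get p.val)

theorem ptW_ok : allFrom (fun p => tab.okWord (ptWS.get p)) 0 819 = true := by decide +kernel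

theorem cnj_tuples : allFrom (fun p => allFrom (fun g =>
    Nat.beq (mapTup (tab.act g) 5 (tab.app tab.base (ptWS.get p)))
      (tab.app (mapTup (tab.act g) 5 tab.base) (ptWS.get (tab.act g p)))) 0 7) 0 819 = true := by
  decide +kernel

theorem img_q {g : Nat} (hg : g < 7) (p : Fin 819) : (img (model.q g) p).val = tab.act g p.val :=
  (acts.act_eq g (show g < 16 by omega) p).symm

theorem tup_app {w : Nat} (hw : tab.okWord w = true) (a : HGroup) :
    tab.app (model.tup a) w = model.tup (a * model.el w) := by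
  rw [Tab.app, force_eq]
  exact (model.tup_mul_word _ _ _ hw).symm

theorem cnj_q {g : Nat} (hg : g < 7) (p : Fin 819) :
    cnj p * model.q g = model.q g * cnj (img (model.q g) p) := by
  have hw := allFrom_all ptW_ok p.2
  have hw' := allFrom_all ptW_ok (img (model.q g) p).2
  have h := Nat.eq_of_beq_eq_true (allFrom_all (allFrom_all cnj_tuples p.2) hg)
  rw [← img_q hg p] at h
  refine model.inj ?_
  have e1 : tab.base = model.tup 1 := model.one.symm
  have e2 : mapTup (tab.act g) 5 (model.tup 1) = model.tup (1 * model.q g) :=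
    (model.step 1 g (show g < 16 by omega)).symm
  rw [e1, tup_app hw, e2, tup_app hw', one_mul, one_mul] at h
  rw [cnj, cnj, ← h]
  exact model.step _ g (show g < 16 by omega)

theorem cnj_conj (q : HGroup) : ∀ p, q⁻¹ * cnj p * q = cnj (img q p) := by
  have hq : q ∈ Subgroup.closure {x | ∃ g, g < 7 ∧ x = model.q g} := by
    have htop : Subgroup.closure {x | ∃ g, g < 7 ∧ x = model.q g} = ⊤ := by
      rw [eq_top_iff, ← PresentedGroup.closure_range_of, Subgroup.closure_le]
      rintro _ ⟨b, rfl⟩
      refine Subgroup.subset_closure ⟨b.val, b.2, ?_⟩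
      show PresentedGroup.of b = qL b.val
      fin_cases b <;> simp [qL, letWord, qB] <;> rfl
    rw [htop]; trivial
  induction hq using Subgroup.closure_induction with
  | mem x hx =>
    obtain ⟨g, hg, rfl⟩ := hx
    intro p
    rw [mul_assoc, cnj_q hg p, inv_mul_cancel_left]
  | one => intro p; simp [img_one]
  | mul x y _ _ hx hy =>
    intro p
    rw [img_mul, ← hy, ← hx]
    group
  | inv x _ hx =>
    intro p
    have e : img x (img x⁻¹ p) = p := by rw [← img_mul, inv_mul_cancel, img_one]
    have h := hx (img x⁻¹ p)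
    rw [e] at h
    rw [← h]
    group

/-- The origin. -/
def p0 : Fin 819 := ⟨0, by decide⟩

theorem trans_ok : allFrom (fun p => gate (tab.okWord (trWS.get p))
    (Nat.beq (actW tab.act 0 (trWS.get p)) p)) 0 819 = true := by decide +kernel

theorem exists_img (p : Fin 819) : ∃ q, img q p0 = p := by
  have h := allFrom_all trans_ok p.2
  simp only [gate_eq, Bool.and_eq_true] at h
  exact ⟨_, Fin.ext ((img_el h.1 p0).trans (Nat.eq_of_beq_eq_true h.2))⟩

/-- The stabiliser of the origin. -/
noncomputable def stab0 : Subgroup HGroup where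
  carrier := {q | img q p0 = p0}
  one_mem' := img_one _
  mul_mem' {x y} hx hy := by
    show img (x * y) p0 = p0
    rw [img_mul, show img x p0 = p0 from hx, show img y p0 = p0 from hy]
  inv_mem' {x} hx := by
    show img x⁻¹ p0 = p0
    conv_lhs => rw [← show img x p0 = p0 from hx]
    rw [← img_mul, mul_inv_cancel, img_one]

theorem stab0_index : stab0.index = 819 := by
  let f : HGroup ⧸ stab0 → Fin 819 := fun z => Quotient.liftOn' z (fun q => img q⁻¹ p0) fun x y h => by
    rw [QuotientGroup.leftRel_apply] at h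
    have h' : img (x⁻¹ * y) p0 = p0 := h
    calc img x⁻¹ p0 = img y⁻¹ (img (x⁻¹ * y) p0) := by rw [← img_mul]; simp [mul_assoc]
      _ = img y⁻¹ p0 := by rw [h']
  have hf : Function.Bijective f := by
    constructor
    · intro a b h
      induction a using QuotientGroup.induction_on with
      | _ x =>
        induction b using QuotientGroup.induction_on with
        | _ y =>
          rw [QuotientGroup.eq]
          show img (x⁻¹ * y) p0 = p0
          rw [img_mul, show img x⁻¹ p0 = img y⁻¹ p0 from h, ← img_mul, inv_mul_cancel, img_one]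
    · intro p
      obtain ⟨q, hq⟩ := exists_img p
      exact ⟨QuotientGroup.mk q⁻¹, show img q⁻¹⁻¹ p0 = p by rw [inv_inv]; exact hq⟩
  rw [Subgroup.index_eq_card, Nat.card_congr (Equiv.ofBijective f hf), Nat.card_fin]

theorem fix_ok : allFrom (fun i => gate (tab.okWord (fixWS.get i))
    (Nat.beq (actW tab.act 0 (fixWS.get i)) 0)) 0 4 = true := by decide +kernel

theorem orb_ok : allFrom (fun p => Bool.rec (motive := fun _ => Bool)
    (force (orbPar p) fun r => force (orbVia p) fun a => gate (Nat.blt r 819)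
      (gate (Nat.blt a 4) (gate (Nat.beq (orbL r) (orbL p))
        (gate (Nat.blt (orbRank r) (orbRank p)) (Nat.beq (actW tab.act r (fixWS.get a)) p)))))
    (gate (Nat.blt (orbL p) 4) (Nat.beq (orbRep.getD (orbL p) 0) p))
    (Nat.beq (orbRank p) 0)) 0 819 = true := by decide +kernel

/-- Every point is moved to from the representative of its suborbit by the stabiliser. -/
theorem orb_conn (p : Fin 819) : orbL p.val < 4 ∧ ∃ s ∈ stab0, ∃ r : Fin 819,
    r.val = orbRep.getD (orbL p.val) 0 ∧ img s r = p := by
  generalize hn : orbRank p.val = n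
  induction n using Nat.strong_induction_on generalizing p with
  | _ n ih =>
    have h := allFrom_all orb_ok p.2
    cases hb : Nat.beq (orbRank p.val) 0 <;> rw [hb] at h
    · simp only [force_eq, gate_eq, Bool.and_eq_true] at h
      obtain ⟨hr, ha, hl, hlt, he⟩ := h
      obtain ⟨hl4, s, hs, r, hr', hsr⟩ :=
        ih _ (hn ▸ Nat.ble_eq.mp hlt) ⟨_, Nat.ble_eq.mp hr⟩ rfl
      have hl' := Nat.eq_of_beq_eq_true hl
      have hfix := allFrom_all fix_ok (Nat.ble_eq.mp ha)
      simp only [gate_eq, Bool.and_eq_true] at hfix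
      refine ⟨hl' ▸ hl4, s * model.el (fixWS.get (orbVia p.val)),
        stab0.mul_mem hs (Fin.ext ?_), r, hl' ▸ hr', Fin.ext ?_⟩
      · exact (img_el hfix.1 p0).trans (Nat.eq_of_beq_eq_true hfix.2)
      · rw [img_mul, hsr, img_el hfix.1]
        exact Nat.eq_of_beq_eq_true he
    · simp only [gate_eq, Bool.and_eq_true] at h
      exact ⟨Nat.ble_eq.mp h.1, 1, stab0.one_mem, p, (Nat.eq_of_beq_eq_true h.2).symm, img_one p⟩

theorem orb_counts : ∀ e : Fin 8,
    ((List.range 819).countP fun p =>
      Nat.beq (orbL p) 0 || Nat.testBit e.val (orbL p - 1)) = 1 ∨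
    ((List.range 819).countP fun p =>
      Nat.beq (orbL p) 0 || Nat.testBit e.val (orbL p - 1)) = 819 ∨
    ¬ ((List.range 819).countP fun p =>
      Nat.beq (orbL p) 0 || Nat.testBit e.val (orbL p - 1)) ∣ 819 := by
  decide +kernel

theorem orbL_zero : allFrom (fun p => gate (Nat.blt (orbL p) 4)
    (Bool.rec (motive := fun _ => Bool) true (Nat.beq p 0) (Nat.beq (orbL p) 0))) 0 819 = true ∧
    orbL 0 = 0 := by
  decide +kernel

/-- A nontrivial normal subgroup is transitive. -/
theorem normal_trans (N : Subgroup HGroup) [N.Normal] (hN : N ≠ ⊥) (p : Fin 819) :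
    ∃ n ∈ N, img n p0 = p := by
  classical
  have := hgroup_card.1
  let B : Set (Fin 819) := {p | ∃ n ∈ N, img n p0 = p}
  have hB0 : p0 ∈ B := ⟨1, N.one_mem, img_one _⟩
  have hinv : ∀ s ∈ stab0, ∀ x, x ∈ B → img s x ∈ B := by
    rintro s hs x ⟨n, hn, rfl⟩
    refine ⟨s⁻¹ * n * s, ?_, ?_⟩
    · simpa using Subgroup.Normal.conj_mem ‹N.Normal› n hn s⁻¹
    · rw [img_mul, img_mul, show img s⁻¹ p0 = p0 from stab0.inv_mem hs]
  have hstab' : ∀ s ∈ stab0, ∀ x, img s x ∈ B → x ∈ B := by
    intro s hs x hx
    have := hinv s⁻¹ (stab0.inv_mem hs) _ hx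
    rwa [← img_mul, mul_inv_cancel, img_one] at this
  have bits : ∀ a b c : Bool,
      Nat.testBit (a.toNat + 2 * b.toNat + 4 * c.toNat) 0 = a ∧
      Nat.testBit (a.toNat + 2 * b.toNat + 4 * c.toNat) 1 = b ∧
      Nat.testBit (a.toNat + 2 * b.toNat + 4 * c.toNat) 2 = c ∧
      a.toNat + 2 * b.toNat + 4 * c.toNat < 8 := by decide
  let a : Bool := decide ((⟨orbRep.getD 1 0, by decide⟩ : Fin 819) ∈ B)
  let b : Bool := decide ((⟨orbRep.getD 2 0, by decide⟩ : Fin 819) ∈ B)
  let c : Bool := decide ((⟨orbRep.getD 3 0, by decide⟩ : Fin 819) ∈ B)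
  let sel : Nat := a.toNat + 2 * b.toNat + 4 * c.toNat
  have hsel : sel < 8 := (bits a b c).2.2.2
  have hmem : ∀ x : Fin 819, x ∈ B ↔
      (Nat.beq (orbL x.val) 0 || Nat.testBit sel (orbL x.val - 1)) = true := by
    intro x
    obtain ⟨hl, s, hs, r, hr, hrx⟩ := orb_conn x
    have hxr : x ∈ B ↔ r ∈ B := ⟨fun h => hstab' s hs r (hrx ▸ h), fun h => hrx ▸ hinv s hs r h⟩
    rw [hxr]
    generalize orbL x.val = l at hl hr
    interval_cases l
    · have : r = p0 := Fin.ext hr
      simp [this, hB0]
    all_goals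
      obtain rfl : r = ⟨_, by decide⟩ := Fin.ext hr
      simp only [show Nat.beq 1 0 = false from rfl, show Nat.beq 2 0 = false from rfl,
        show Nat.beq 3 0 = false from rfl, Bool.false_or, Nat.reduceSub]
      first
        | rw [(bits a b c).1] | rw [(bits a b c).2.1] | rw [(bits a b c).2.2.1]
      exact decide_eq_true_iff.symm
  have hcard : Nat.card B = (List.range 819).countP fun x =>
      Nat.beq (orbL x) 0 || Nat.testBit sel (orbL x - 1) := by
    rw [Nat.card_congr (Equiv.subtypeEquivRight hmem), Nat.card_eq_fintype_card, Fintype.card_subtype]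
    rw [Finset.card_def, Finset.filter_val]
    show (Multiset.filter _ (↑(List.finRange 819) : Multiset (Fin 819))).card = _
    rw [Multiset.filter_coe, Multiset.coe_card, List.countP_eq_length_filter,
      ← List.map_coe_finRange_eq_range, List.filter_map, List.length_map]
    congr 1
    exact List.filter_congr fun x _ => by
      simp only [Function.comp]
      cases hb : Nat.beq (orbL x.val) 0 <;> simp_all [Nat.beq_eq]
  have hdvd : Nat.card B ∣ 819 := by
    have e : Nat.card B = stab0.relIndex N := by
      rw [Subgroup.relIndex, Subgroup.index_eq_card]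
      symm
      let f : N ⧸ stab0.subgroupOf N → B := fun z => Quotient.liftOn' z
        (fun n => ⟨img (n : HGroup)⁻¹ p0, _, N.inv_mem n.2, rfl⟩) fun x y h => by
          rw [QuotientGroup.leftRel_apply, Subgroup.mem_subgroupOf] at h
          have h' : img ((x : HGroup)⁻¹ * y) p0 = p0 := h
          apply Subtype.ext
          calc img (x : HGroup)⁻¹ p0 = img (y : HGroup)⁻¹ (img ((x : HGroup)⁻¹ * y) p0) := by
                rw [← img_mul]; simp [mul_assoc]
            _ = _ := by rw [h']
      refine Nat.card_congr (Equiv.ofBijective f ⟨fun a b h => ?_, ?_⟩)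
      · induction a using QuotientGroup.induction_on with
        | _ x =>
          induction b using QuotientGroup.induction_on with
          | _ y =>
            rw [QuotientGroup.eq, Subgroup.mem_subgroupOf]
            show img ((x : HGroup)⁻¹ * y) p0 = p0
            rw [img_mul, show img (x : HGroup)⁻¹ p0 = img (y : HGroup)⁻¹ p0 from congrArg Subtype.val h,
              ← img_mul, inv_mul_cancel, img_one]
      · rintro ⟨_, n, hn, rfl⟩
        exact ⟨QuotientGroup.mk ⟨n⁻¹, N.inv_mem hn⟩, Subtype.ext (by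
          show img (n⁻¹)⁻¹ p0 = img n p0
          rw [inv_inv])⟩
    rw [e, ← stab0_index]
    have a1 := Subgroup.relIndex_mul_relIndex (⊥ : Subgroup HGroup) N (stab0 ⊔ N) bot_le le_sup_right
    have a2 := Subgroup.relIndex_mul_relIndex (⊥ : Subgroup HGroup) stab0 (stab0 ⊔ N) bot_le le_sup_left
    have a3 := Subgroup.relIndex_mul_relIndex (⊥ : Subgroup HGroup) (stab0 ⊓ N) N bot_le inf_le_right
    have a4 := Subgroup.relIndex_mul_relIndex (⊥ : Subgroup HGroup) (stab0 ⊓ N) stab0 bot_le inf_le_left
    rw [Subgroup.relIndex_sup_right] at a1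
    rw [Subgroup.inf_relIndex_right] at a3
    rw [Subgroup.inf_relIndex_left] at a4
    have hz : stab0.relIndex (stab0 ⊔ N) = stab0.relIndex N := by
      rw [← a3, ← a2, ← a4] at a1
      have hk : (⊥ : Subgroup HGroup).relIndex (stab0 ⊓ N) ≠ 0 := by
        rw [Subgroup.relIndex_bot_left]; exact Nat.card_pos.ne'
      have hm : N.relIndex stab0 ≠ 0 := Subgroup.index_ne_zero_of_finite
      have h' : (⊥ : Subgroup HGroup).relIndex (stab0 ⊓ N) * N.relIndex stab0 * stab0.relIndex N =
          (⊥ : Subgroup HGroup).relIndex (stab0 ⊓ N) * N.relIndex stab0 *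
            stab0.relIndex (stab0 ⊔ N) := by rw [← a1]; ring
      exact (Nat.eq_of_mul_eq_mul_left (Nat.pos_of_ne_zero (Nat.mul_ne_zero hk hm)) h').symm
    rw [← hz]
    exact Dvd.intro _ (Subgroup.relIndex_mul_index (le_sup_left : stab0 ≤ stab0 ⊔ N))
  rcases orb_counts ⟨sel, hsel⟩ with h | h | h
  · exfalso
    rw [← hcard] at h
    have hsub : ∀ x ∈ B, x = p0 := fun x hx => by
      obtain ⟨hs, -⟩ := Nat.card_eq_one_iff_unique.1 h
      exact congrArg Subtype.val (hs.elim ⟨x, hx⟩ ⟨p0, hB0⟩)
    refine hN ((Subgroup.eq_bot_iff_forall N).2 fun n hn => ?_)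
    refine rho_faithful n fun l _ => ?_
    obtain ⟨q, hq⟩ := exists_img (bpt l)
    have hn' : img (q * n * q⁻¹) p0 = p0 := hsub _ ⟨_, Subgroup.Normal.conj_mem ‹N.Normal› n hn q, rfl⟩
    rw [img_mul, img_mul, hq] at hn'
    have h2 := congrArg (img q) hn'
    rw [← img_mul, inv_mul_cancel, img_one, hq] at h2
    exact h2
  · rw [← hcard] at h
    have hall : B = Set.univ := Set.eq_univ_of_forall fun x => by
      by_contra hx
      have : Nat.card B < Nat.card (Fin 819) :=
        Finite.card_subtype_lt (x := x) hx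
      rw [h, Nat.card_fin] at this
      exact lt_irrefl _ this
    have := hall ▸ Set.mem_univ p
    exact this
  · exact absurd (hcard ▸ hdvd) h

theorem cnj_zero : cnj p0 = ql [0] := el_eq_ql (by decide +kernel)

theorem gen_prod : ∀ g : Fin 6,
    (okL [g.val] && ((conjProd.getD g.val []).all fun p => Nat.blt p 819) &&
      Nat.beq ((conjProd.getD g.val []).foldl (fun t p => tab.app t (ptWS.get p)) tab.base)
        (tupOf [g.val])) = true := by
  decide +kernel

/-- Every nontrivial normal subgroup contains the first six generators. -/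
theorem normal_contains (N : Subgroup HGroup) [N.Normal] (hN : N ≠ ⊥) (g : Nat) (hg : g < 6) :
    ql [g] ∈ N := by
  let π := QuotientGroup.mk' N
  have hker : ∀ x, π x = 1 ↔ x ∈ N := fun x => QuotientGroup.eq_one_iff x
  let x := π (ql [0])
  have hcnj : ∀ p, π (cnj p) = x := by
    intro p
    obtain ⟨n, hn, hp⟩ := normal_trans N hN p
    rw [← hp, ← cnj_conj n p0, cnj_zero, map_mul, map_mul, map_inv, (hker n).2 hn, inv_one, one_mul, mul_one]
  have hx2 : x * x = 1 := by
    show π (ql [0]) * π (ql [0]) = 1
    rw [← map_mul, ← ql_append, ql_eq (m := []) (by decide +kernel)]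
    exact map_one π
  have hgen : ∀ g, g < 6 → ∃ k : Nat, π (ql [g]) = x ^ k := by
    intro g hg
    have h := gen_prod ⟨g, hg⟩
    simp only [Bool.and_eq_true] at h
    obtain ⟨⟨hok, hlt⟩, he⟩ := h
    have key : ∀ (ps : List Nat), (ps.all fun p => Nat.blt p 819) = true → ∀ a : HGroup,
        ∃ b, ps.foldl (fun t p => tab.app t (ptWS.get p)) (model.tup a) = model.tup (a * b) ∧
          π b = x ^ ps.length := by
      intro ps
      induction ps with
      | nil => intro _ a; exact ⟨1, by simp, by simp⟩
      | cons p ps ih =>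
        intro hall a
        simp only [List.all_cons, Bool.and_eq_true] at hall
        have hp := Nat.ble_eq.mp hall.1
        obtain ⟨b, hb, hπ⟩ := ih hall.2 (a * model.el (ptWS.get p))
        refine ⟨cnj ⟨p, hp⟩ * b, ?_, ?_⟩
        · rw [List.foldl_cons, tup_app (allFrom_all ptW_ok hp), hb, cnj, mul_assoc]
        · rw [map_mul, hcnj, hπ, List.length_cons, pow_succ']
    obtain ⟨b, hb, hπ⟩ := key _ hlt 1
    rw [show model.tup 1 = tab.base from model.one, Nat.eq_of_beq_eq_true he, one_mul] at hb
    rw [show ql [g] = b from model.inj ((tup_ql [g] hok).trans hb)]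
    exact ⟨_, hπ⟩
  have hx : x = 1 := by
    obtain ⟨i, hi⟩ := hgen 2 (by omega)
    obtain ⟨j, hj⟩ := hgen 3 (by omega)
    have hpow : ∀ m : Nat, (x ^ m) * (x ^ m) = 1 := fun m => by
      rw [← (Commute.refl x).mul_pow, hx2, one_pow]
    have hsq : π (ql ([2] ++ [3] ++ [2] ++ [3])) = 1 := by
      simp only [ql_append, map_mul, hi, hj]
      rw [← pow_add, ← pow_add, ← pow_add, show i + j + i + j = (i + j) + (i + j) by omega, pow_add]
      exact hpow _
    show π (ql [0]) = 1
    rw [ql_eq (l := [0]) (m := ([2] ++ [3] ++ [2] ++ [3]) ++ ([2] ++ [3] ++ [2] ++ [3])) (by decide +kernel),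
      ql_append, map_mul, hsq, one_mul]
  obtain ⟨k, hk⟩ := hgen g hg
  rw [hx, one_pow] at hk
  exact (hker _).1 hk

end Cfsg.Agent.DCoset.Th
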