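import Cfsg.Agent.DCoset.PermModel
import Cfsg.Agent.DCoset.Th.HGroup
import Cfsg.Agent.DCoset.Th.ModelChain

/-!
The group on `a b c d e s t` as a model on 819 points with five base points.
-/

set_option autoImplicit false
set_option maxRecDepth 100000

namespace Cfsg.Agent.DCoset.Th

open Cfsg.Agent.DCoset Cfsg.Agent.CosetCert

/-- The inverse of a basic letter. -/
def ivL (g : Nat) : Nat :=
  if g = 5 then 7 else if g = 6 then 8 else if g = 7 then 5 else if g = 8 then 6 else g

/-- Walk a list of letters. -/
noncomputable def goL (act : Nat → Nat → Nat) : List Nat → Nat → Nat :=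
  fun l => List.rec (fun p => p) (fun g _ ih p => force (act g p) fun q => ih q) l

theorem goL_eq (act : Nat → Nat → Nat) : ∀ (l : List Nat) (p : Nat),
    goL act l p = l.foldl (fun p g => act g p) p
  | [], _ => rfl
  | g :: l, p => by
    show force (act g p) (fun q => goL act l q) = _
    rw [force_eq, goL_eq act l, List.foldl_cons]

theorem letters_ok : allFrom (fun g => allFrom (fun p => gate (Nat.blt (tab.act g p) 819)
    (Nat.beq (tab.act (ivL g) (tab.act g p)) p)) 0 819) 0 9 = true := by
  decide +kernel

theorem let_ok {g : Nat} (hg : g < 9) {p : Nat} (hp : p < 819) :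
    tab.act g p < 819 ∧ tab.act (ivL g) (tab.act g p) = p := by
  have h := allFrom_all (allFrom_all letters_ok hg) hp
  simp only [gate_eq, Bool.and_eq_true] at h
  exact ⟨Nat.ble_eq.mp h.1, Nat.eq_of_beq_eq_true h.2⟩

theorem ivL_lt {g : Nat} (hg : g < 9) : ivL g < 9 := by unfold ivL; split_ifs <;> omega

theorem ivL_ivL {g : Nat} (hg : g < 9) : ivL (ivL g) = g := by
  unfold ivL; split_ifs <;> omega

/-- A basic letter as a permutation of the points. -/
noncomputable def letPerm (g : Fin 9) : Equiv.Perm (Fin 819) :=
  Equiv.ofBijective (fun p => ⟨tab.act g.val p.val, (let_ok g.2 p.2).1⟩)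
    (Finite.injective_iff_bijective.1 fun p p' h => Fin.ext (by
      have e : tab.act g.val p.val = tab.act g.val p'.val := congrArg Fin.val h
      rw [← (let_ok g.2 p.2).2, e, (let_ok g.2 p'.2).2]))

theorem letPerm_val (g : Fin 9) (p : Fin 819) : (letPerm g p).val = tab.act g.val p.val := rfl

/-- The acting element of a basic letter. -/
noncomputable def letEl (g : Nat) : Equiv.Perm (Fin 819) := (letPerm (Fin.ofNat 9 g))⁻¹

theorem letEl_inv {g : Nat} (hg : g < 9) : letEl (ivL g) = (letEl g)⁻¹ := by
  rw [letEl, letEl, inv_inv]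
  refine (inv_eq_of_mul_eq_one_left (Equiv.ext fun p => Fin.ext ?_))
  show (letPerm (Fin.ofNat 9 g) (letPerm (Fin.ofNat 9 (ivL g)) p)).val = _
  rw [letPerm_val, letPerm_val, Fin.val_ofNat, Fin.val_ofNat, Nat.mod_eq_of_lt (ivL_lt hg),
    Nat.mod_eq_of_lt hg]
  have h := (let_ok (ivL_lt hg) p.2).2
  rw [ivL_ivL hg] at h
  simpa using h

/-- The element of a list of basic letters. -/
noncomputable def wordEl (l : List Nat) : Equiv.Perm (Fin 819) := (l.map letEl).prod

theorem wordEl_apply : ∀ (l : List Nat), (∀ g ∈ l, g < 9) → ∀ p : Fin 819,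
    ((wordEl l)⁻¹ p).val = goL tab.act l p.val
  | [], _, p => rfl
  | g :: l, hl, p => by
    rw [show wordEl (g :: l) = letEl g * wordEl l by simp [wordEl], mul_inv_rev,
      Equiv.Perm.mul_apply, wordEl_apply l (fun x hx => hl x (List.mem_cons_of_mem _ hx)), goL_eq,
      goL_eq, List.foldl_cons, letEl, inv_inv, letPerm_val, Fin.val_ofNat,
      Nat.mod_eq_of_lt (hl g List.mem_cons_self)]

/-- The code of a signed generator. -/
def code (a : Fin 7 × Bool) : Nat := if a.2 then a.1.val else ivL a.1.val

theorem code_lt (a : Fin 7 × Bool) : code a < 9 := by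
  revert a
  decide +kernel

/-- The image of a generator. -/
noncomputable def genPerm (x : Fin 7) : Equiv.Perm (Fin 819) := letEl x.val

theorem lift_code : ∀ w : List (Fin 7 × Bool),
    FreeGroup.lift genPerm (FreeGroup.mk w) = wordEl (w.map code)
  | [] => by simp [wordEl, FreeGroup.lift_mk]
  | (x, s) :: w => by
    have ih := lift_code w
    rw [FreeGroup.lift_mk] at ih ⊢
    rw [List.map_cons, List.prod_cons, ih, List.map_cons,
      show wordEl (code (x, s) :: w.map code) = letEl (code (x, s)) * wordEl (w.map code) by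
        simp [wordEl]]
    cases s
    · simp only [code, Bool.false_eq_true, if_false, letEl_inv (by omega : x.val < 9), cond_false]
      rfl
    · simp [code, genPerm]

theorem rels_fix : HRels.all (fun w =>
    allFrom (fun p => Nat.beq (goL tab.act (w.map code) p) p) 0 819) = true := by
  decide +kernel

theorem gen_rels : ∀ r ∈ wordRels HRels, FreeGroup.lift genPerm r = 1 := by
  intro r hr
  obtain ⟨w, hw, rfl⟩ := List.mem_map.1 hr
  rw [lift_code, ← inv_eq_one]
  refine Equiv.ext fun p => Fin.ext ?_
  rw [wordEl_apply _ (fun g hg => by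
    obtain ⟨a, -, rfl⟩ := List.mem_map.1 hg
    exact code_lt a)]
  exact Nat.eq_of_beq_eq_true (allFrom_all (List.all_eq_true.1 rels_fix w hw) p.2)

/-- The action of the presented group on the points. -/
noncomputable def rho : HGroup →* Equiv.Perm (Fin 819) := PresentedGroup.toGroup gen_rels

/-- A basic letter in the presented group. -/
def qB (g : Nat) : HGroup :=
  if g < 7 then PresentedGroup.of (Fin.ofNat 7 g) else (PresentedGroup.of (Fin.ofNat 7 (g - 2)))⁻¹

/-- A letter in the presented group. -/
def qL (g : Nat) : HGroup := ((letWord.getD g []).map qB).prod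

theorem rho_qB {g : Nat} (hg : g < 9) : rho (qB g) = letEl g := by
  have hof : ∀ x, x < 7 → rho (PresentedGroup.of (Fin.ofNat 7 x)) = letEl x := fun x hx => by
    rw [rho, PresentedGroup.toGroup.of]
    show letEl (Fin.ofNat 7 x).val = _
    rw [Fin.val_ofNat, Nat.mod_eq_of_lt hx]
  rw [qB]
  split_ifs with h
  · exact hof g h
  · rw [map_inv, hof _ (by omega), ← letEl_inv (by omega : g - 2 < 9)]
    congr 1
    unfold ivL
    split_ifs <;> omega

theorem letWord_lt : ∀ g : Fin 16, ∀ x ∈ letWord.getD g.val [], x < 9 := by decide +kernel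

theorem letWord_ok : allFrom (fun g => allFrom (fun p =>
    Nat.beq (goL tab.act (letWord.getD g []) p) (tab.act g p)) 0 819) 0 16 = true := by
  decide +kernel

theorem rho_qL {g : Nat} (hg : g < 16) : rho (qL g) = wordEl (letWord.getD g []) := by
  rw [qL, map_list_prod, List.map_map, wordEl]
  exact congrArg List.prod (List.map_congr_left fun x hx => rho_qB (letWord_lt ⟨g, hg⟩ x hx))

/-- The base points. -/
def bpt (l : Nat) : Fin 819 := Fin.ofNat 819 ([1, 3, 5, 9, 15].getD l 0)

theorem acts : Acts rho tab qL bpt where
  small := by norm_num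
  act_eq g hg p := by
    change g < 16 at hg
    rw [rho_qL hg, wordEl_apply _ (letWord_lt ⟨g, hg⟩)]
    exact (Nat.eq_of_beq_eq_true (allFrom_all (allFrom_all letWord_ok hg) p.2)).symm
  act_lt := tab_act_lt
  base_eq := by decide +kernel

theorem qChain_gen :
    allFrom (fun l => allFrom (QModel.checkGen tab qChain l) 0 (qChain.nGen l)) 0 5 = true := by
  decide +kernel

theorem qChain_pt :
    allFrom (fun l => allFrom (QModel.checkPt tab qChain l) 0 (qChain.size l)) 0 5 = true := by
  decide +kernel

theorem qChain_prod : ((List.range tab.k).map qChain.size).prod = 634023936 := by decide +kernel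

theorem rho_faithful : ∀ a : HGroup, (∀ l, l < tab.k → (rho a)⁻¹ (bpt l) = bpt l) → a = 1 :=
  have := hgroup_card.1
  acts.faithful qChain hgroup_card.2 qChain_prod
    (fun _ _ hl ha => allFrom_all (allFrom_all qChain_gen hl) ha)
    (fun _ _ hl hm => allFrom_all (allFrom_all qChain_pt hl) hm)

/-- The model. -/
noncomputable def model : QModel HGroup := acts.toQModel rho_faithful

/-- The order is exactly that of 3D4(2):3. -/
theorem hgroup_card_eq : Nat.card HGroup = 634023936 := by
  have := hgroup_card.1
  refine le_antisymm hgroup_card.2 ?_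
  rw [← qChain_prod, ← Subgroup.card_top]
  exact model.card_ge ⊤ qChain (fun _ _ _ _ => trivial)
    (fun _ _ hl ha => allFrom_all (allFrom_all qChain_gen hl) ha)
    (fun _ _ hl hm => allFrom_all (allFrom_all qChain_pt hl) hm)

/-- Two words with the same tuple have the same value. -/
theorem el_congr {v w : Nat} (hv : tab.okWord v = true) (hw : tab.okWord w = true)
    (h : tab.app tab.base v = tab.app tab.base w) : model.el v = model.el w := by
  have e : ∀ x, tab.okWord x = true → tab.app tab.base x = model.tup (model.el x) := fun x hx => by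
    have := model.tup_mul_word _ _ 1 (show lettersBelow model.nL (wLen x) (wBody x) = true from hx)
    rw [one_mul, model.one] at this
    rw [Tab.app, force_eq]
    exact this.symm
  rw [e v hv, e w hw] at h
  exact model.inj h

theorem qB_top : Subgroup.closure {x | ∃ g, g < 8 ∧ x = model.q g} = ⊤ := by
  rw [eq_top_iff, ← PresentedGroup.closure_range_of, Subgroup.closure_le]
  rintro _ ⟨b, rfl⟩
  refine Subgroup.subset_closure ⟨b.val, by omega, ?_⟩
  show PresentedGroup.of b = qL b.val
  fin_cases b <;> simp [qL, letWord, qB] <;> rfl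

end Cfsg.Agent.DCoset.Th
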