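import Cfsg.Prelude.Def_Spor_Th
import Cfsg.Agent.DCoset.Th.Model
import Cfsg.Agent.DCoset.Th.Value.Data

/-!
Identities in the presented Thompson group: the images under `u` of seven elements generating a
subgroup of order 36864 of `<a, b, c, d, e, s, t>`.
-/

set_option autoImplicit false
set_option maxRecDepth 100000

namespace Cfsg.Agent.DCoset.Th

open Cfsg.Agent.DCoset Cfsg.Agent.CosetCert
open Cfsg.Spor.Th (Gen)

/-- The presented Thompson group. -/
abbrev GTh : Type := Cfsg.Spor.Th

/-- The relators. -/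
abbrev thRels : Set (FreeGroup Gen) :=
  Cfsg.Spor.coxRelators Cfsg.Spor.Th.edges ∪ {r | r ∈ Cfsg.Spor.Th.extra}

/-- A signed word in the presented group. -/
def wG (l : List (Gen × Bool)) : GTh := PresentedGroup.mk thRels (FreeGroup.mk l)

theorem wG_nil : wG [] = 1 := map_one _

theorem wG_append (l m : List (Gen × Bool)) : wG (l ++ m) = wG l * wG m := by
  rw [wG, wG, wG, ← map_mul, FreeGroup.mul_mk]

theorem wG_cons (a : Gen × Bool) (l : List (Gen × Bool)) : wG (a :: l) = wG [a] * wG l :=
  wG_append [a] l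

theorem extra_one {r : FreeGroup Gen} (h : r ∈ Cfsg.Spor.Th.extra) : PresentedGroup.mk thRels r = 1 :=
  PresentedGroup.one_of_mem (Set.mem_union_right _ h)

theorem wG_inv (g : Gen) : wG [(g, false)] = (wG [(g, true)])⁻¹ := by
  rw [wG, wG, ← map_inv, FreeGroup.inv_mk]; rfl

/-- The generator of `Th` of a generator of the subgroup. -/
def genOf (b : Fin 7) : Gen := [Gen.a, .b, .c, .d, .e, .s, .t].getD b.val .a

theorem sub_extra : ∀ l ∈ HRels, FreeGroup.map genOf (FreeGroup.mk l) ∈ Cfsg.Spor.Th.extra := by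
  decide +kernel

theorem iota_rels : ∀ r ∈ wordRels HRels,
    FreeGroup.lift (fun b => (PresentedGroup.of (genOf b) : GTh)) r = 1 := by
  intro r hr
  obtain ⟨l, hl, rfl⟩ := List.mem_map.1 hr
  rw [← extra_one (sub_extra l hl)]
  have : FreeGroup.lift (fun b => (PresentedGroup.of (genOf b) : GTh)) =
      (PresentedGroup.mk thRels).comp (FreeGroup.map genOf) :=
    FreeGroup.ext_hom _ _ fun b => by
      simp [PresentedGroup.of, FreeGroup.map.of, FreeGroup.lift_apply_of]
  rw [this, MonoidHom.comp_apply]

/-- The map of `<a, b, c, d, e, s, t>`. -/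
def iota : HGroup →* GTh := PresentedGroup.toGroup iota_rels

theorem iota_of (b : Fin 7) : iota (PresentedGroup.of b) = wG [(genOf b, true)] :=
  PresentedGroup.toGroup.of iota_rels

/-- The value of a list of letters. -/
def ql (l : List Nat) : HGroup := (l.map qL).prod

theorem ql_append (l m : List Nat) : ql (l ++ m) = ql l * ql m := by simp [ql]

theorem ql_cons (g : Nat) (l : List Nat) : ql (g :: l) = qL g * ql l := by simp [ql]

/-- The tuple of a list of letters. -/
noncomputable def tupOf (l : List Nat) : Nat :=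
  List.rec (fun t => t) (fun g _ ih t => force (mapTup (tab.act g) 5 t) fun t' => ih t') l tab.base

/-- All letters are among the sixteen. -/
def okL (l : List Nat) : Bool := l.all fun g => Nat.blt g 16

theorem tup_ql (l : List Nat) (hl : okL l = true) : model.tup (ql l) = tupOf l := by
  have key : ∀ (l : List Nat), okL l = true → ∀ a, model.tup (a * ql l) =
      List.rec (motive := fun _ => Nat → Nat) (fun t => t)
        (fun g _ ih t => force (mapTup (tab.act g) 5 t) fun t' => ih t') l (model.tup a) := by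
    intro l
    induction l with
    | nil => intro _ a; simp [ql]
    | cons g l ih =>
      intro hl a
      simp only [okL, List.all_cons, Bool.and_eq_true] at hl
      show _ = force (mapTup (tab.act g) 5 (model.tup a)) _
      rw [force_eq, ql_cons, ← mul_assoc, show qL g = model.q g from rfl, ih hl.2,
        model.step a g (Nat.ble_eq.mp hl.1)]
      rfl
  have := key l hl 1
  rw [one_mul, model.one] at this
  exact this

theorem ql_eq {l m : List Nat} (h : (okL l && okL m && Nat.beq (tupOf l) (tupOf m)) = true) :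
    ql l = ql m := by
  simp only [Bool.and_eq_true] at h
  refine model.inj ?_
  rw [tup_ql l h.1.1, tup_ql m h.1.2]
  exact Nat.eq_of_beq_eq_true h.2

theorem el_eq_ql {w : Nat} {l : List Nat}
    (h : (tab.okWord w && okL l && Nat.beq (tab.app tab.base w) (tupOf l)) = true) :
    model.el w = ql l := by
  simp only [Bool.and_eq_true] at h
  refine model.inj ?_
  have := model.tup_mul_word _ _ 1 (show lettersBelow model.nL (wLen w) (wBody w) = true from h.1.1)
  rw [one_mul, model.one] at this
  rw [tup_ql l h.1.2, ← Nat.eq_of_beq_eq_true h.2, Tab.app, force_eq]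
  exact this

/-- The letter of a signed generator other than `u`. -/
def gCode (x : Gen × Bool) : Nat :=
  match x.1, x.2 with
  | .a, _ => 0
  | .b, _ => 1
  | .c, _ => 2
  | .d, _ => 3
  | .e, _ => 4
  | .s, true => 5
  | .s, false => 7
  | .t, true => 6
  | .t, false => 8
  | .u, _ => 0

theorem sq_letters : ∀ g : Fin 5, (okL [g.val, g.val] && okL [] && Nat.beq (tupOf [g.val, g.val]) (tupOf [])) = true := by
  decide +kernel

theorem iota_code (x : Gen × Bool) (hx : x.1 ≠ .u) : iota (ql [gCode x]) = wG [x] := by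
  have hinv : ∀ g : Gen, wG [(g, false)] = (wG [(g, true)])⁻¹ := fun g => by
    rw [wG, wG, ← map_inv, FreeGroup.inv_mk]; rfl
  have hpos : ∀ b : Fin 7, iota (ql [b.val]) = wG [(genOf b, true)] := fun b => by
    rw [← iota_of]
    congr 1
    fin_cases b <;> simp [ql, qL, letWord, qB] <;> rfl
  have hsq : ∀ g : Fin 5, iota (ql [g.val]) = (wG [(genOf (Fin.castLE (by decide) g), true)])⁻¹ := by
    intro g
    rw [← hpos (Fin.castLE (by decide) g), ← map_inv]
    congr 1
    refine eq_inv_of_mul_eq_one_left ?_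
    rw [← ql_append]
    exact (ql_eq (sq_letters g)).trans rfl
  obtain ⟨g, s⟩ := x
  cases g <;> cases s <;> simp only [gCode, hinv]
  · exact hsq 0
  · exact hpos 0
  · exact hsq 1
  · exact hpos 1
  · exact hsq 2
  · exact hpos 2
  · exact hsq 3
  · exact hpos 3
  · exact hsq 4
  · exact hpos 4
  · rw [show wG [(Gen.s, true)] = wG [(genOf 5, true)] from rfl, ← hpos 5, ← map_inv]; congr 1
  · exact hpos 5
  · rw [show wG [(Gen.t, true)] = wG [(genOf 6, true)] from rfl, ← hpos 6, ← map_inv]; congr 1
  · exact hpos 6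
  · exact absurd rfl hx
  · exact absurd rfl hx

theorem wG_ql : ∀ (l : List (Gen × Bool)), (∀ x ∈ l, x.1 ≠ .u) → wG l = iota (ql (l.map gCode))
  | [], _ => by simp [ql, wG_nil]
  | x :: l, h => by
    rw [wG_cons, wG_ql l fun y hy => h y (List.mem_cons_of_mem _ hy), ← iota_code x (h x List.mem_cons_self),
      ← map_mul, ← ql_append]
    rfl

/-- The generator `u`. -/
def gU : GTh := PresentedGroup.of Gen.u

theorem gen_eq (g : Gen) (hg : g ≠ .u) :
    (PresentedGroup.of g : GTh) = iota (ql [gCode (g, true)]) := (iota_code (g, true) hg).symm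

theorem u_sq : gU * gU = iota (ql [0, 2]) := by
  have h : PresentedGroup.mk thRels
      ((Spor.Th.u ^ 2) * ((Spor.Th.a * Spor.Th.c)⁻¹)) = 1 := extra_one (by decide +kernel)
  rw [map_mul, map_inv, mul_inv_eq_one, map_pow, map_mul, sq] at h
  rw [show ql [0, 2] = ql [0] * ql [2] from ql_append [0] [2], map_mul]
  show gU * gU = iota (ql [gCode (.a, true)]) * iota (ql [gCode (.c, true)])
  rw [← gen_eq .a (by decide), ← gen_eq .c (by decide)]
  exact h

theorem u_inv : gU⁻¹ = gU * iota (ql [2, 0]) := by
  refine inv_eq_of_mul_eq_one_right ?_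
  rw [← mul_assoc, u_sq, ← map_mul, ← ql_append, ql_eq (m := []) (by decide +kernel)]
  simp [ql]

theorem comm_u {g : Gen} (hg : g ≠ .u)
    (hr : (FreeGroup.of Gen.u)⁻¹ * (FreeGroup.of g)⁻¹ * FreeGroup.of Gen.u * FreeGroup.of g ∈
      Cfsg.Spor.Th.extra) :
    gU * iota (ql [gCode (g, true)]) = iota (ql [gCode (g, true)]) * gU := by
  have h := extra_one hr
  simp only [map_mul, map_inv] at h
  rw [← gen_eq g hg]
  change gU⁻¹ * (PresentedGroup.of g)⁻¹ * gU * PresentedGroup.of g = 1 at h
  have h' := congrArg (fun z => PresentedGroup.of g * gU * z) h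
  simpa [mul_assoc] using h'

theorem u_e : gU * iota (ql [4]) = iota (ql [4]) * gU := comm_u (g := .e) (by decide) (by decide +kernel)

theorem u_a : gU * iota (ql [0]) = iota (ql [0]) * gU := comm_u (g := .a) (by decide) (by decide +kernel)

theorem u_c : gU * iota (ql [2]) = iota (ql [2]) * gU := comm_u (g := .c) (by decide) (by decide +kernel)

theorem u_t : gU * iota (ql [8]) = iota (ql [6]) * gU := by
  have h : PresentedGroup.mk thRels
      ((Spor.Th.u⁻¹ * Spor.Th.t * Spor.Th.u) * ((Spor.Th.t⁻¹)⁻¹)) = 1 := extra_one (by decide +kernel)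
  rw [map_mul, inv_inv, map_mul, map_mul, map_inv] at h
  have e8 : iota (ql [8]) = (PresentedGroup.of Gen.t : GTh)⁻¹ := by
    rw [show (8 : Nat) = gCode (.t, false) from rfl, iota_code _ (by decide), wG_inv]
    rfl
  rw [e8, show ql [6] = ql [gCode (.t, true)] from rfl, ← gen_eq .t (by decide)]
  have e : gU⁻¹ * PresentedGroup.of Gen.t * gU = (PresentedGroup.of Gen.t : GTh)⁻¹ :=
    eq_inv_of_mul_eq_one_left h
  rw [← e]
  group

theorem u_s2e : gU * iota (ql [5, 5, 4, 7, 7]) = iota (ql [5, 5, 4, 7, 7]) * gU := by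
  have h : PresentedGroup.mk thRels (Spor.Th.e⁻¹ * ((Spor.Th.s ^ 2)⁻¹ * Spor.Th.u * (Spor.Th.s ^ 2))⁻¹ *
      Spor.Th.e * ((Spor.Th.s ^ 2)⁻¹ * Spor.Th.u * (Spor.Th.s ^ 2))) = 1 := extra_one (by decide +kernel)
  simp only [map_mul, map_inv, map_pow] at h
  set e : GTh := PresentedGroup.of Gen.e with he
  set s : GTh := PresentedGroup.of Gen.s with hs
  change e⁻¹ * ((s ^ 2)⁻¹ * gU * s ^ 2)⁻¹ * e * ((s ^ 2)⁻¹ * gU * s ^ 2) = 1 at h
  have hq : iota (ql [5, 5, 4, 7, 7]) = s * s * e * s⁻¹ * s⁻¹ := by
    have hw := wG_ql [(.s, true), (.s, true), (.e, true), (.s, false), (.s, false)] (by decide)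
    rw [show ql [5, 5, 4, 7, 7] = ql (([(Gen.s, true), (.s, true), (.e, true), (.s, false), (.s, false)]).map gCode) from rfl,
      ← hw, hs, he]
    simp only [wG, PresentedGroup.of, ← map_mul, ← map_inv]
    rfl
  rw [hq]
  simp only [sq] at h
  calc gU * (s * s * e * s⁻¹ * s⁻¹)
      = s * s * ((s * s)⁻¹ * gU * (s * s)) * e * (s * s)⁻¹ := by group
    _ = s * s * ((s * s)⁻¹ * gU * (s * s)) * e *
          (e⁻¹ * ((s * s)⁻¹ * gU * (s * s))⁻¹ * e * ((s * s)⁻¹ * gU * (s * s))) * (s * s)⁻¹ := by
        rw [h, mul_one]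
    _ = s * s * e * s⁻¹ * s⁻¹ * gU := by simp [mul_assoc]

theorem u_seS : gU * iota (ql [12]) = iota (ql [9]) * gU := by
  have h12 : ql [12] = ql ([8] ++ ([5, 5, 4, 7, 7] ++ [6])) := ql_eq (by decide +kernel)
  have h9 : ql [9] = ql ([6] ++ ([5, 5, 4, 7, 7] ++ [8])) := ql_eq (by decide +kernel)
  have h68 : iota (ql [6]) * iota (ql [8]) = 1 := by
    rw [← map_mul, ← ql_append, ql_eq (m := []) (by decide +kernel)]
    simp [ql]
  have h6 : gU * iota (ql [6]) = iota (ql [8]) * gU := by
    have h86 : iota (ql [8]) * iota (ql [6]) = 1 := mul_eq_one_comm.1 h68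
    calc gU * iota (ql [6]) = iota (ql [8]) * (iota (ql [6]) * gU) * iota (ql [6]) := by
          rw [← mul_assoc, h86, one_mul]
      _ = iota (ql [8]) * gU * (iota (ql [8]) * iota (ql [6])) := by rw [← u_t]; simp only [mul_assoc]
      _ = iota (ql [8]) * gU := by rw [h86, mul_one]
  simp only [h12, h9, ql_append, map_mul, mul_assoc]
  rw [← mul_assoc gU (iota (ql [8])), u_t, mul_assoc, ← mul_assoc gU (iota (ql [5, 5, 4, 7, 7])),
    u_s2e, mul_assoc, h6]

theorem u_bacb : gU * iota (ql [14]) = iota (ql [11]) * gU := by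
  have h : PresentedGroup.mk thRels
      ((Spor.Th.u⁻¹ * (Spor.Th.b⁻¹ * (Spor.Th.a * Spor.Th.c) * Spor.Th.b)⁻¹ * Spor.Th.u *
        (Spor.Th.b⁻¹ * (Spor.Th.a * Spor.Th.c) * Spor.Th.b)) * (Spor.Th.e⁻¹)) = 1 :=
    extra_one (by decide +kernel)
  simp only [map_mul, map_inv] at h
  rw [mul_inv_eq_one] at h
  set x : GTh := (PresentedGroup.of Gen.b)⁻¹ * (PresentedGroup.of Gen.a * PresentedGroup.of Gen.c) *
    PresentedGroup.of Gen.b with hx
  change gU⁻¹ * x⁻¹ * gU * x = PresentedGroup.of Gen.e at h
  have hql : iota (ql [11]) = x := by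
    rw [ql_eq (l := [11]) (m := [(Gen.b, false), (.a, true), (.c, true), (.b, true)].map gCode)
      (by decide +kernel), ← wG_ql _ (by decide), hx]
    simp only [wG, PresentedGroup.of, ← map_mul, ← map_inv]
    rfl
  have h14 : iota (ql [14]) = PresentedGroup.of Gen.e * x := by
    rw [ql_eq (l := [14]) (m := [4] ++ [11]) (by decide +kernel), ql_append, map_mul, hql,
      show ([4] : List Nat) = [gCode (Gen.e, true)] from rfl, ← gen_eq .e (by decide)]
  have hx2 : x * x = 1 := by
    rw [← hql, ← map_mul, ← ql_append, ql_eq (m := []) (by decide +kernel)]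
    simp [ql]
  rw [hql, h14, ← h]
  calc gU * (gU⁻¹ * x⁻¹ * gU * x * x) = x⁻¹ * gU * (x * x) := by group
    _ = x * gU := by rw [hx2, mul_one, inv_eq_of_mul_eq_one_right hx2]

/-- The letters of the labelled log. -/
def trLet (x : Nat) : List (Gen × Bool) :=
  if x < 7 then [([Gen.a, .c, .d, .e, .s, .t, .u].getD x .a, true)]
  else if x < 14 then [([Gen.a, .c, .d, .e, .s, .t, .u].getD (x - 7) .a, false)] else []

theorem wG_trLet : ∀ w : List Nat, (w.map fun x => wG (trLet x)).prod = wG (w.flatMap trLet)
  | [] => wG_nil.symm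
  | x :: w => by rw [List.map_cons, List.prod_cons, wG_trLet w, List.flatMap_cons, wG_append]

theorem track_words : ∀ k, k < Value.track.nW →
    if k < 44 then (FreeGroup.mk ((Value.track.word k).flatMap trLet) ∈ Cfsg.Spor.Th.extra ∨
        FreeGroup.mk ((Value.track.word k).flatMap trLet) = 1) ∧ Value.track.tgt k = tupOf []
    else ((Value.track.word k).flatMap trLet).all (fun x => decide (x.1 ≠ Gen.u)) = true ∧
      okL (((Value.track.word k).flatMap trLet).map gCode) = true ∧
      Value.track.tgt k = tupOf (((Value.track.word k).flatMap trLet).map gCode) ∧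
      Value.track.rootOnly k = true := by
  decide +kernel

theorem track_sound : Track.Sound Value.track model iota fun x => wG (trLet x) where
  K_one := wG_nil
  iv_eq x := by
    have key : ∀ g : Gen, wG [(g, false)] = (wG [(g, true)])⁻¹ := fun g => by
      rw [wG, wG, ← map_inv, FreeGroup.inv_mk]; rfl
    show wG (trLet (if x < 7 then x + 7 else if x < 14 then x - 7 else x)) = (wG (trLet x))⁻¹
    unfold trLet
    by_cases h1 : x < 7
    · simp only [h1, if_true, show ¬ x + 7 < 7 by omega, if_false, show x + 7 < 14 by omega,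
        Nat.add_sub_cancel]
      exact key _
    by_cases h2 : x < 14
    · simp only [h1, if_false, h2, if_true, show x - 7 < 7 by omega]
      rw [key, inv_inv]
    · simp [h1, h2, wG_nil]
  word_eq k hk := by
    have h := track_words k hk
    rw [wG_trLet]
    split_ifs at h with h44
    · refine ⟨ql [], by rw [tup_ql [] rfl, h.2], ?_, fun _ => rfl⟩
      rw [show ql [] = (1 : HGroup) from rfl, map_one]
      rcases h.1 with h' | h'
      · exact extra_one h'
      · rw [wG, h', map_one]
    · obtain ⟨hu, hok, htgt, hr⟩ := h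
      refine ⟨_, by rw [tup_ql _ hok, htgt],
        wG_ql _ fun x hx => of_decide_eq_true (List.all_eq_true.1 hu x hx), fun hf => ?_⟩
      rw [hr] at hf
      exact Bool.noConfusion hf

theorem track_ok : allFrom (Track.check Value.track tab) 0 2982 = true := by decide +kernel

theorem track_value : Track.checkValue Value.track tab Value.valueWord Value.valueLen Value.valueItems
    (tupOf [13]) = true := by decide +kernel

theorem u_dcd : gU * iota (ql [13]) = iota (ql [10]) * gU := by
  have hchk : ∀ i, i < Value.track.len → Track.check Value.track model.toTab i = true := fun i hi =>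
    allFrom_all track_ok hi
  have hv := Track.value (P := model) (b := ql [13]) track_sound hchk (w := Value.valueWord)
    (n := Value.valueLen) (its := Value.valueItems) (by rw [tup_ql [13] rfl]; exact track_value)
  rw [wG_trLet, show Value.valueWord.flatMap trLet =
    [(Gen.u, false)] ++ ([(Gen.d, true), (.c, true), (.d, true)] ++ [(.u, true)]) from by decide +kernel,
    wG_append, wG_append, wG_ql [(Gen.d, true), (.c, true), (.d, true)] (by decide),
    ql_eq (m := [10]) (by decide +kernel)] at hv
  rw [← hv, show wG [(Gen.u, false)] = gU⁻¹ by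
    rw [wG, show gU = PresentedGroup.mk thRels (FreeGroup.mk [(Gen.u, true)]) from rfl, ← map_inv,
      FreeGroup.inv_mk]; rfl, show wG [(Gen.u, true)] = gU from rfl]
  group

end Cfsg.Agent.DCoset.Th
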