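import Cfsg.Agent.DCoset.Emit
import Cfsg.Prelude.Def_Spor_Th

/-! Generated by tools/dcoset/emit.py: relators split at u. -/

set_option Elab.async false

namespace Cfsg.Agent.DCoset.Th

open Cfsg.Agent.DCoset Cfsg.Agent.CosetCert

/-- The six relators used, as signed words. -/
def baseWords : List (List (Cfsg.Spor.Th.Gen × Bool)) := [
  [(.d, true), (.e, true), (.u, true), (.c, true), (.a, true), (.d, true), (.u, true), (.d, true), (.e, true), (.u, true), (.c, true), (.a, true), (.d, true), (.u, true)],
  [(.d, false), (.u, true), (.c, true), (.a, true), (.d, true), (.b, false), (.c, false), (.a, false), (.b, true), (.d, false), (.u, true), (.d, true), (.b, false), (.a, true), (.c, true), (.b, true), (.c, false), (.e, false), (.d, false), (.u, true), (.c, true), (.a, true), (.d, true), (.b, false), (.c, false), (.a, false), (.b, true), (.e, false), (.u, true), (.c, true), (.a, true)],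
  [(.e, false), (.s, false), (.s, false), (.u, true), (.c, true), (.a, true), (.s, true), (.s, true), (.e, true), (.s, false), (.s, false), (.u, true), (.s, true), (.s, true)],
  [(.a, true), (.c, true), (.s, false), (.u, true), (.c, true), (.a, true), (.s, false), (.u, true), (.c, true), (.a, true), (.s, false), (.u, true), (.c, true), (.a, true)],
  [(.a, true), (.c, true), (.s, false), (.u, true), (.c, true), (.a, true), (.s, true), (.u, true), (.s, false), (.u, true), (.c, true), (.a, true), (.s, true), (.u, true), (.s, false), (.u, true), (.c, true), (.a, true), (.s, true), (.u, true), (.s, false), (.u, true), (.c, true), (.a, true), (.s, true), (.u, true)],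
  [(.d, true), (.s, false), (.s, false), (.u, true), (.s, true), (.s, true), (.d, true), (.s, false), (.s, false), (.u, true), (.s, true), (.s, true), (.d, true), (.s, false), (.s, false), (.u, true), (.s, true), (.s, true), (.d, true), (.s, false), (.s, false), (.u, true), (.s, true), (.s, true), (.s, false), (.s, false), (.e, false), (.d, false), (.c, false), (.d, true), (.e, true), (.s, true), (.s, true), (.s, true), (.e, false), (.d, false), (.c, false), (.d, true), (.e, true), (.s, false), (.d, false), (.c, false), (.d, true), (.c, false), (.a, false)]]

/-- For each relator of the certificate: its base relator, the rotation, and the parts between the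
letters `u`. -/
def relSplit : List (Nat × Nat × List (List (Cfsg.Spor.Th.Gen × Bool))) := [
  (0, 2, [[(.c, true), (.a, true), (.d, true)], [(.d, true), (.e, true)], [(.c, true), (.a, true), (.d, true)], [(.d, true), (.e, true)]]),
  (0, 6, [[(.d, true), (.e, true)], [(.c, true), (.a, true), (.d, true)], [(.d, true), (.e, true)], [(.c, true), (.a, true), (.d, true)]]),
  (1, 1, [[(.c, true), (.a, true), (.d, true), (.b, false), (.c, false), (.a, false), (.b, true), (.d, false)], [(.d, true), (.b, false), (.a, true), (.c, true), (.b, true), (.c, false), (.e, false), (.d, false)], [(.c, true), (.a, true), (.d, true), (.b, false), (.c, false), (.a, false), (.b, true), (.e, false)], [(.c, true), (.a, true), (.d, false)]]),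
  (1, 10, [[(.d, true), (.b, false), (.a, true), (.c, true), (.b, true), (.c, false), (.e, false), (.d, false)], [(.c, true), (.a, true), (.d, true), (.b, false), (.c, false), (.a, false), (.b, true), (.e, false)], [(.c, true), (.a, true), (.d, false)], [(.c, true), (.a, true), (.d, true), (.b, false), (.c, false), (.a, false), (.b, true), (.d, false)]]),
  (1, 19, [[(.c, true), (.a, true), (.d, true), (.b, false), (.c, false), (.a, false), (.b, true), (.e, false)], [(.c, true), (.a, true), (.d, false)], [(.c, true), (.a, true), (.d, true), (.b, false), (.c, false), (.a, false), (.b, true), (.d, false)], [(.d, true), (.b, false), (.a, true), (.c, true), (.b, true), (.c, false), (.e, false), (.d, false)]]),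
  (1, 28, [[(.c, true), (.a, true), (.d, false)], [(.c, true), (.a, true), (.d, true), (.b, false), (.c, false), (.a, false), (.b, true), (.d, false)], [(.d, true), (.b, false), (.a, true), (.c, true), (.b, true), (.c, false), (.e, false), (.d, false)], [(.c, true), (.a, true), (.d, true), (.b, false), (.c, false), (.a, false), (.b, true), (.e, false)]]),
  (2, 3, [[(.c, true), (.a, true), (.s, true), (.s, true), (.e, true), (.s, false), (.s, false)], [(.s, true), (.s, true), (.e, false), (.s, false), (.s, false)]]),
  (2, 11, [[(.s, true), (.s, true), (.e, false), (.s, false), (.s, false)], [(.c, true), (.a, true), (.s, true), (.s, true), (.e, true), (.s, false), (.s, false)]]),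
  (3, 3, [[(.c, true), (.a, true), (.s, false)], [(.c, true), (.a, true), (.s, false)], [(.c, true), (.a, true), (.a, true), (.c, true), (.s, false)]]),
  (3, 7, [[(.c, true), (.a, true), (.s, false)], [(.c, true), (.a, true), (.a, true), (.c, true), (.s, false)], [(.c, true), (.a, true), (.s, false)]]),
  (3, 11, [[(.c, true), (.a, true), (.a, true), (.c, true), (.s, false)], [(.c, true), (.a, true), (.s, false)], [(.c, true), (.a, true), (.s, false)]]),
  (4, 3, [[(.c, true), (.a, true), (.s, true)], [(.s, false)], [(.c, true), (.a, true), (.s, true)], [(.s, false)], [(.c, true), (.a, true), (.s, true)], [(.s, false)], [(.c, true), (.a, true), (.s, true)], [(.a, true), (.c, true), (.s, false)]]),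
  (4, 7, [[(.s, false)], [(.c, true), (.a, true), (.s, true)], [(.s, false)], [(.c, true), (.a, true), (.s, true)], [(.s, false)], [(.c, true), (.a, true), (.s, true)], [(.a, true), (.c, true), (.s, false)], [(.c, true), (.a, true), (.s, true)]]),
  (4, 9, [[(.c, true), (.a, true), (.s, true)], [(.s, false)], [(.c, true), (.a, true), (.s, true)], [(.s, false)], [(.c, true), (.a, true), (.s, true)], [(.a, true), (.c, true), (.s, false)], [(.c, true), (.a, true), (.s, true)], [(.s, false)]]),
  (4, 13, [[(.s, false)], [(.c, true), (.a, true), (.s, true)], [(.s, false)], [(.c, true), (.a, true), (.s, true)], [(.a, true), (.c, true), (.s, false)], [(.c, true), (.a, true), (.s, true)], [(.s, false)], [(.c, true), (.a, true), (.s, true)]]),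
  (4, 15, [[(.c, true), (.a, true), (.s, true)], [(.s, false)], [(.c, true), (.a, true), (.s, true)], [(.a, true), (.c, true), (.s, false)], [(.c, true), (.a, true), (.s, true)], [(.s, false)], [(.c, true), (.a, true), (.s, true)], [(.s, false)]]),
  (4, 19, [[(.s, false)], [(.c, true), (.a, true), (.s, true)], [(.a, true), (.c, true), (.s, false)], [(.c, true), (.a, true), (.s, true)], [(.s, false)], [(.c, true), (.a, true), (.s, true)], [(.s, false)], [(.c, true), (.a, true), (.s, true)]]),
  (4, 21, [[(.c, true), (.a, true), (.s, true)], [(.a, true), (.c, true), (.s, false)], [(.c, true), (.a, true), (.s, true)], [(.s, false)], [(.c, true), (.a, true), (.s, true)], [(.s, false)], [(.c, true), (.a, true), (.s, true)], [(.s, false)]]),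
  (4, 25, [[(.a, true), (.c, true), (.s, false)], [(.c, true), (.a, true), (.s, true)], [(.s, false)], [(.c, true), (.a, true), (.s, true)], [(.s, false)], [(.c, true), (.a, true), (.s, true)], [(.s, false)], [(.c, true), (.a, true), (.s, true)]]),
  (5, 3, [[(.s, true), (.s, true), (.d, true), (.s, false), (.s, false)], [(.s, true), (.s, true), (.d, true), (.s, false), (.s, false)], [(.s, true), (.s, true), (.d, true), (.s, false), (.s, false)], [(.s, true), (.s, true), (.s, false), (.s, false), (.e, false), (.d, false), (.c, false), (.d, true), (.e, true), (.s, true), (.s, true), (.s, true), (.e, false), (.d, false), (.c, false), (.d, true), (.e, true), (.s, false), (.d, false), (.c, false), (.d, true), (.c, false), (.a, false), (.d, true), (.s, false), (.s, false)]]),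
  (5, 9, [[(.s, true), (.s, true), (.d, true), (.s, false), (.s, false)], [(.s, true), (.s, true), (.d, true), (.s, false), (.s, false)], [(.s, true), (.s, true), (.s, false), (.s, false), (.e, false), (.d, false), (.c, false), (.d, true), (.e, true), (.s, true), (.s, true), (.s, true), (.e, false), (.d, false), (.c, false), (.d, true), (.e, true), (.s, false), (.d, false), (.c, false), (.d, true), (.c, false), (.a, false), (.d, true), (.s, false), (.s, false)], [(.s, true), (.s, true), (.d, true), (.s, false), (.s, false)]]),
  (5, 15, [[(.s, true), (.s, true), (.d, true), (.s, false), (.s, false)], [(.s, true), (.s, true), (.s, false), (.s, false), (.e, false), (.d, false), (.c, false), (.d, true), (.e, true), (.s, true), (.s, true), (.s, true), (.e, false), (.d, false), (.c, false), (.d, true), (.e, true), (.s, false), (.d, false), (.c, false), (.d, true), (.c, false), (.a, false), (.d, true), (.s, false), (.s, false)], [(.s, true), (.s, true), (.d, true), (.s, false), (.s, false)], [(.s, true), (.s, true), (.d, true), (.s, false), (.s, false)]]),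
  (5, 21, [[(.s, true), (.s, true), (.s, false), (.s, false), (.e, false), (.d, false), (.c, false), (.d, true), (.e, true), (.s, true), (.s, true), (.s, true), (.e, false), (.d, false), (.c, false), (.d, true), (.e, true), (.s, false), (.d, false), (.c, false), (.d, true), (.c, false), (.a, false), (.d, true), (.s, false), (.s, false)], [(.s, true), (.s, true), (.d, true), (.s, false), (.s, false)], [(.s, true), (.s, true), (.d, true), (.s, false), (.s, false)], [(.s, true), (.s, true), (.d, true), (.s, false), (.s, false)]])]

end Cfsg.Agent.DCoset.Th
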