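import Cfsg.Agent.DCoset.Th.Table

/-! Generated by tools/dcoset/emit.py: rules and relators. -/

set_option Elab.async false

namespace Cfsg.Agent.DCoset.Th

open Cfsg.Agent.DCoset Cfsg.Agent.CosetCert

def rSS : Store := (.leaf 0x10002000200020002000200020002000200010001000100010001000100010000000000000000000000000000000000000000000000000000000000000000)

noncomputable def rS : Nat → Nat := get16 rSS

def rDS : Store := (.leaf 0x20001000200020002000200020002000200010001000100010001000100010000000000000000000000000000000000000000000000000000000000000000)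

noncomputable def rD : Nat → Nat := get16 rDS

def rUS : Store := (.node 16 (.node 8 (.node 4 (.node 2 (.node 1 (.leaf 0x1) (.leaf 0x10001)) (.node 3 (.leaf 0x20001) (.leaf 0x30001))) (.node 6 (.node 5 (.leaf 0x40001) (.leaf 0x50001)) (.node 7 (.leaf 0x60001) (.leaf 0x70001)))) (.node 12 (.node 10 (.node 9 (.leaf 0x80001) (.leaf 0x90001)) (.node 11 (.leaf 0xa0001) (.leaf 0xb0001))) (.node 14 (.node 13 (.leaf 0xc0001) (.leaf 0xd0001)) (.node 15 (.leaf 0xe0001) (.leaf 0xf0001))))) (.node 24 (.node 20 (.node 18 (.node 17 (.leaf 0x40001) (.leaf 0x1)) (.node 19 (.leaf 0x20001) (.leaf 0x60001))) (.node 22 (.node 21 (.leaf 0x90001) (.leaf 0xa0001)) (.node 23 (.leaf 0xb0001) (.leaf 0x40001)))) (.node 28 (.node 26 (.node 25 (.leaf 0x1) (.leaf 0x20001)) (.node 27 (.leaf 0x60001) (.leaf 0x90001))) (.node 30 (.node 29 (.leaf 0xa0001) (.leaf 0xb0001)) (.node 31 (.leaf 0x0) (.leaf 0x0))))))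

def rVS : Store := (.node 16 (.node 8 (.node 4 (.node 2 (.node 1 (.leaf 0x1) (.leaf 0x10001)) (.node 3 (.leaf 0x20001) (.leaf 0x30001))) (.node 6 (.node 5 (.leaf 0x40001) (.leaf 0x50001)) (.node 7 (.leaf 0x60001) (.leaf 0x70001)))) (.node 12 (.node 10 (.node 9 (.leaf 0x80001) (.leaf 0x90001)) (.node 11 (.leaf 0xa0001) (.leaf 0xb0001))) (.node 14 (.node 13 (.leaf 0xc0001) (.leaf 0xd0001)) (.node 15 (.leaf 0xe0001) (.leaf 0xf0001))))) (.node 24 (.node 20 (.node 18 (.node 17 (.leaf 0x40001) (.leaf 0x1)) (.node 19 (.leaf 0x20001) (.leaf 0x80001))) (.node 22 (.node 21 (.leaf 0xc0001) (.leaf 0xd0001)) (.node 23 (.leaf 0xe0001) (.leaf 0x40001)))) (.node 28 (.node 26 (.node 25 (.leaf 0x1) (.leaf 0x20001)) (.node 27 (.leaf 0x80001) (.leaf 0xc0001))) (.node 30 (.node 29 (.leaf 0xf0001) (.leaf 0xe0001)) (.node 31 (.leaf 0x2000002) (.leaf 0x2000002))))))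

def invTS : Store := (.leaf 0x100020000)

noncomputable def invT : Nat → Nat := get16 invTS

def mulTS : Store := (.leaf 0x10003000100000002000300020001)

noncomputable def mulT : Nat → Nat := get16 mulTS

def relHdS : Store := (.leaf 0x10001000100010001000100010001000100010001000100010001000100010001000100010001000100010001)

noncomputable def relHd : Nat → Nat := get16 relHdS

def relLenS : Store := (.leaf 0x30003000300030007000700070007000700070007000700020002000200010001000300030003000300030003)

noncomputable def relLen : Nat → Nat := get16 relLenS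

def relWS_1 : Store := (.node 10 (.node 5 (.node 2 (.node 1 (.leaf 0x302000003) (.leaf 0x4030002)) (.node 3 (.leaf 0x302000003) (.node 4 (.leaf 0x0) (.leaf 0x0)))) (.node 7 (.node 6 (.leaf 0x0) (.leaf 0x0)) (.node 8 (.leaf 0x4030002) (.node 9 (.leaf 0x302000003) (.leaf 0x4030002))))) (.node 15 (.node 12 (.node 11 (.leaf 0x0) (.leaf 0x0)) (.node 13 (.leaf 0x0) (.node 14 (.leaf 0x0) (.leaf 0x3010203000102000008)))) (.node 17 (.node 16 (.leaf 0x3040102030001000008) (.leaf 0x4010203000102000008)) (.node 18 (.leaf 0x0) (.node 19 (.leaf 0x0) (.leaf 0x0))))))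

def relWS_2 : Store := (.node 30 (.node 25 (.node 22 (.node 21 (.leaf 0x0) (.leaf 0x3040102030001000008)) (.node 23 (.leaf 0x4010203000102000008) (.node 24 (.leaf 0x302000003) (.leaf 0x0)))) (.node 27 (.node 26 (.leaf 0x0) (.leaf 0x0)) (.node 28 (.leaf 0x0) (.node 29 (.leaf 0x4010203000102000008) (.leaf 0x302000003))))) (.node 35 (.node 32 (.node 31 (.leaf 0x3010203000102000008) (.leaf 0x0)) (.node 33 (.leaf 0x0) (.node 34 (.leaf 0x0) (.leaf 0x0)))) (.node 37 (.node 36 (.leaf 0x302000003) (.leaf 0x3010203000102000008)) (.node 38 (.leaf 0x3040102030001000008) (.node 39 (.leaf 0x0) (.leaf 0x0))))))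

def relWS_3 : Store := (.node 20 relWS_1 relWS_2)

def relWS_4 : Store := (.node 50 (.node 45 (.node 42 (.node 41 (.leaf 0x0) (.leaf 0x0)) (.node 43 (.leaf 0x609060602000006) (.node 44 (.leaf 0x0) (.leaf 0x0)))) (.node 47 (.node 46 (.leaf 0x0) (.leaf 0x0)) (.node 48 (.leaf 0x0) (.node 49 (.leaf 0x0) (.leaf 0x60906060004))))) (.node 55 (.node 52 (.node 51 (.leaf 0x0) (.leaf 0x0)) (.node 53 (.leaf 0x0) (.node 54 (.leaf 0x0) (.leaf 0x0)))) (.node 57 (.node 56 (.leaf 0x0) (.leaf 0x702000003)) (.node 58 (.leaf 0x702000003) (.node 59 (.leaf 0x0) (.leaf 0x0))))))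

def relWS_5 : Store := (.node 70 (.node 65 (.node 62 (.node 61 (.leaf 0x0) (.leaf 0x0)) (.node 63 (.leaf 0x0) (.node 64 (.leaf 0x702000003) (.leaf 0x70001)))) (.node 67 (.node 66 (.leaf 0x0) (.leaf 0x0)) (.node 68 (.leaf 0x0) (.node 69 (.leaf 0x0) (.leaf 0x0))))) (.node 75 (.node 72 (.node 71 (.leaf 0x70001) (.leaf 0x702000003)) (.node 73 (.leaf 0x0) (.node 74 (.leaf 0x0) (.leaf 0x0)))) (.node 77 (.node 76 (.leaf 0x0) (.leaf 0x0)) (.node 78 (.leaf 0x502000003) (.node 79 (.leaf 0x70001) (.leaf 0x502000003))))))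

def relWS_6 : Store := (.node 60 relWS_4 relWS_5)

def relWS_7 : Store := (.node 40 relWS_3 relWS_6)

def relWS_8 : Store := (.node 90 (.node 85 (.node 82 (.node 81 (.leaf 0x70001) (.leaf 0x502000003)) (.node 83 (.leaf 0x70001) (.node 84 (.leaf 0x502000003) (.leaf 0x70001)))) (.node 87 (.node 86 (.leaf 0x502000003) (.leaf 0x70001)) (.node 88 (.leaf 0x502000003) (.node 89 (.leaf 0x70001) (.leaf 0x502000003))))) (.node 95 (.node 92 (.node 91 (.leaf 0x702000003) (.leaf 0x502000003)) (.node 93 (.leaf 0x70001) (.node 94 (.leaf 0x502000003) (.leaf 0x70001)))) (.node 97 (.node 96 (.leaf 0x502000003) (.leaf 0x702000003)) (.node 98 (.leaf 0x502000003) (.node 99 (.leaf 0x70001) (.leaf 0x502000003))))))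

def relWS_9 : Store := (.node 110 (.node 105 (.node 102 (.node 101 (.leaf 0x70001) (.leaf 0x502000003)) (.node 103 (.leaf 0x702000003) (.node 104 (.leaf 0x502000003) (.leaf 0x70001)))) (.node 107 (.node 106 (.leaf 0x502000003) (.leaf 0x70001)) (.node 108 (.leaf 0x502000003) (.node 109 (.leaf 0x702000003) (.leaf 0x502000003))))) (.node 115 (.node 112 (.node 111 (.leaf 0x70001) (.leaf 0x502000003)) (.node 113 (.leaf 0x70001) (.node 114 (.leaf 0x502000003) (.leaf 0x702000003)))) (.node 117 (.node 116 (.leaf 0x502000003) (.leaf 0x70001)) (.node 118 (.leaf 0x502000003) (.node 119 (.leaf 0x70001) (.leaf 0x502000003))))))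

def relWS_10 : Store := (.node 100 relWS_8 relWS_9)

def relWS_11 : Store := (.node 130 (.node 125 (.node 122 (.node 121 (.leaf 0x702000003) (.leaf 0x502000003)) (.node 123 (.leaf 0x70001) (.node 124 (.leaf 0x502000003) (.leaf 0x70001)))) (.node 127 (.node 126 (.leaf 0x502000003) (.leaf 0x702000003)) (.node 128 (.leaf 0x502000003) (.node 129 (.leaf 0x70001) (.leaf 0x502000003))))) (.node 135 (.node 132 (.node 131 (.leaf 0x70001) (.leaf 0x502000003)) (.node 133 (.leaf 0x70001) (.node 134 (.leaf 0x50505030004) (.leaf 0x50505030004)))) (.node 137 (.node 136 (.leaf 0x50505030004) (.leaf 0x0)) (.node 138 (.leaf 0x0) (.node 139 (.leaf 0x0) (.leaf 0x0))))))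

def relWS_12 : Store := (.node 150 (.node 145 (.node 142 (.node 141 (.leaf 0x50505030004) (.leaf 0x50505030004)) (.node 143 (.leaf 0x50505030a0609040a090a06060204000f) (.node 144 (.leaf 0x0) (.leaf 0x0)))) (.node 147 (.node 146 (.leaf 0x0) (.leaf 0x0)) (.node 148 (.leaf 0x50505030004) (.node 149 (.leaf 0x50505030a0609040a090a06060204000f) (.leaf 0x50505030004))))) (.node 155 (.node 152 (.node 151 (.leaf 0x0) (.leaf 0x0)) (.node 153 (.leaf 0x0) (.node 154 (.leaf 0x0) (.leaf 0x50505030a0609040a090a06060204000f)))) (.node 158 (.node 156 (.leaf 0x50505030004) (.node 157 (.leaf 0x50505030004) (.leaf 0x0))) (.node 159 (.leaf 0x0) (.node 160 (.leaf 0x0) (.leaf 0x0))))))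

def relWS_13 : Store := (.node 140 relWS_11 relWS_12)

def relWS_14 : Store := (.node 120 relWS_10 relWS_13)

def relWS : Store := (.node 80 relWS_7 relWS_14)

def relTS : Store := (.node 1 (.leaf 0x10001000100010001000100010001000100010001000100010001000100010001000100010001000100010001000100010001000100010001000100010001000100010001000100010001000100010001000100010001000100010001000100010001000100000000000000000000000100010000000000000000000000010001000000000000000000000001000100000000000000000000000000010000000000000000000000000001000000000000000000010001000100000000000000000001000100010000000000000000000100010001000000000000000000010001000100000000000000000001000100010000000000000000000100010001) (.leaf 0x10001000100000000000000000001000100010000000000000000000100010001000000000000000000010001000100010001000100010001))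

noncomputable def relT : Nat → Nat := get16 relTS

def relTlS : Store := (.node 11 (.node 5 (.node 2 (.node 1 (.leaf 0x3040002) (.leaf 0x30a000003)) (.node 3 (.leaf 0x30a000003) (.node 4 (.leaf 0x20301020300010a0008) (.leaf 0x30401020300010a0008)))) (.node 8 (.node 6 (.leaf 0x30a0b02040005) (.node 7 (.leaf 0x60906060004) (.leaf 0x609060602000006))) (.node 9 (.leaf 0x50001) (.node 10 (.leaf 0x502000003) (.leaf 0x502000003))))) (.node 17 (.node 14 (.node 12 (.leaf 0x502000003) (.node 13 (.leaf 0x702000003) (.leaf 0x50001))) (.node 15 (.leaf 0x702000003) (.node 16 (.leaf 0x50001) (.leaf 0x702000003)))) (.node 20 (.node 18 (.leaf 0x50001) (.node 19 (.leaf 0x702000003) (.leaf 0x5050503090a090a0606090a090602000f))) (.node 21 (.leaf 0x50505030004) (.node 22 (.leaf 0x50505030004) (.leaf 0x50505030004))))))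

/-- The rules and relators. -/
noncomputable def rules : Rules where
  nT := 3
  invT := invT
  mulT a b := mulT (Nat.add (Nat.mul a 3) b)
  nRule := 32
  rS := rS
  rD := rD
  rU := rUS.get
  rV := rVS.get
  nRel := 23
  relHd := relHd
  relLen := relLen
  relW r m := relWS.get (Nat.add (Nat.mul r 7) m)
  relT r m := relT (Nat.add (Nat.mul r 7) m)
  relTl := relTlS.get

end Cfsg.Agent.DCoset.Th
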