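import Cfsg.Agent.DCoset.Th.Ident
import Cfsg.Agent.DCoset.Th.RuleData
import Cfsg.Agent.DCoset.Th.RelWords
import Cfsg.Agent.DCoset.Steps

/-!
The rules and rotated relators of the certificate hold in the presented Thompson group.
-/

set_option autoImplicit false
set_option maxRecDepth 100000

namespace Cfsg.Agent.DCoset.Th

open Cfsg.Agent.DCoset Cfsg.Agent.CosetCert
open Cfsg.Spor.Th (Gen)

/-- The extra letters `1, u, u⁻¹`. -/
def gT (t : Nat) : GTh := if t = 0 then 1 else if t = 1 then gU else gU⁻¹

/-- The generators of the subgroup `U`. -/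
def uLet : List Nat := [4, 0, 2, 6, 9, 10, 11]

/-- Their conjugates by `u`. -/
def vLet : List Nat := [4, 0, 2, 8, 12, 13, 14]

/-- Their conjugates by `u⁻¹`. -/
def wLet : List Nat := [4, 0, 2, 8, 12, 15, 14]

theorem u_rules : ∀ l, l < 7 →
    gU * iota (ql [vLet.getD l 0]) = iota (ql [uLet.getD l 0]) * gU := by
  intro l hl
  interval_cases l
  exacts [u_e, u_a, u_c, u_t, u_seS, u_dcd, u_bacb]

theorem w_tuples : ∀ l : Fin 7, (okL [wLet.getD l.val 0] && okL [0, 2, vLet.getD l.val 0, 0, 2] &&
    Nat.beq (tupOf [wLet.getD l.val 0]) (tupOf [0, 2, vLet.getD l.val 0, 0, 2])) = true := by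
  decide +kernel

theorem u_ac : gU * iota (ql [0, 2]) = gU⁻¹ := by
  rw [u_inv, ql_eq (l := [2, 0]) (m := [0, 2]) (by decide +kernel)]

theorem ui_ac : gU⁻¹ * iota (ql [0, 2]) = gU := by
  rw [← u_sq, ← mul_assoc, inv_mul_cancel, one_mul]

theorem ui_rules : ∀ l, l < 7 →
    gU⁻¹ * iota (ql [wLet.getD l 0]) = iota (ql [uLet.getD l 0]) * gU⁻¹ := by
  intro l hl
  rw [ql_eq (w_tuples ⟨l, hl⟩),
    show [0, 2, vLet.getD l 0, 0, 2] = [0, 2] ++ ([vLet.getD l 0] ++ [0, 2]) from rfl, ql_append,
    ql_append, map_mul, map_mul, ← mul_assoc, ui_ac, ← mul_assoc, u_rules l hl, mul_assoc, u_ac]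

/-- The shape of each rule: source, target and the two words. -/
def ruleShape (r : Nat) : Nat × Nat × List Nat × List Nat :=
  if r < 16 then (0, 0, [r], [r])
  else if r < 23 then (1, 1, [uLet.getD (r - 16) 0], [vLet.getD (r - 16) 0])
  else if r < 30 then (2, 2, [uLet.getD (r - 23) 0], [wLet.getD (r - 23) 0])
  else if r = 30 then (2, 1, [], [0, 2]) else (1, 2, [], [0, 2])

theorem rule_shape : rules.nRule = 32 ∧ ∀ r, r < 32 →
    rules.rS r = (ruleShape r).1 ∧ rules.rD r = (ruleShape r).2.1 ∧
    (ruleShape r).1 < rules.nT ∧ (ruleShape r).2.1 < rules.nT ∧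
    tab.okWord (rules.rU r) = true ∧ tab.okWord (rules.rV r) = true ∧
    (tab.okWord (rules.rU r) && okL (ruleShape r).2.2.1 &&
      Nat.beq (tab.app tab.base (rules.rU r)) (tupOf (ruleShape r).2.2.1)) = true ∧
    (tab.okWord (rules.rV r) && okL (ruleShape r).2.2.2 &&
      Nat.beq (tab.app tab.base (rules.rV r)) (tupOf (ruleShape r).2.2.2)) = true := by
  decide +kernel

theorem rule_eq {r : Nat} (hr : r < 32) :
    gT (ruleShape r).1 * iota (ql (ruleShape r).2.2.2) =
      iota (ql (ruleShape r).2.2.1) * gT (ruleShape r).2.1 := by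
  unfold ruleShape
  split_ifs with h1 h2 h3 h4
  · simp [gT]
  · exact u_rules _ (by omega)
  · exact ui_rules _ (by omega)
  · show gU⁻¹ * iota (ql [0, 2]) = iota (ql []) * gU
    rw [ui_ac, show ql [] = (1 : HGroup) from rfl, map_one, one_mul]
  · show gU * iota (ql [0, 2]) = iota (ql []) * gU⁻¹
    rw [u_ac, show ql [] = (1 : HGroup) from rfl, map_one, one_mul]

/-- Replace `u⁻¹` by `u c a`. -/
def substU : List (Gen × Bool) → List (Gen × Bool) :=
  List.flatMap fun x => if x = (Gen.u, false) then [(.u, true), (.c, true), (.a, true)] else [x]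

theorem wG_substU : ∀ w : List (Gen × Bool), wG (substU w) = wG w
  | [] => rfl
  | x :: w => by
    rw [wG_cons x w, substU, List.flatMap_cons, wG_append,
      show wG (w.flatMap _) = wG w from wG_substU w]
    congr 1
    split_ifs with h
    · subst h
      rw [wG_cons, wG_inv, wG_ql [(Gen.c, true), (.a, true)] (by decide),
        show wG [(Gen.u, true)] = gU from rfl,
        show [(Gen.c, true), (Gen.a, true)].map gCode = [2, 0] from rfl, ← u_inv]
    · rfl

/-- The indices of the six relators among the relators of the presentation. -/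
def origIdx : List Nat := [31, 33, 35, 36, 37, 38]

theorem base_ok : ∀ j : Fin 6, FreeGroup.reduce (baseWords.getD j.val []) =
    FreeGroup.reduce (substU (FreeGroup.toWord (Cfsg.Spor.Th.extra.getD (origIdx.getD j.val 0) 1))) ∧
    origIdx.getD j.val 0 < Cfsg.Spor.Th.extra.length := by
  decide +kernel

theorem base_one {j : Nat} (hj : j < 6) : wG (baseWords.getD j []) = 1 := by
  obtain ⟨h, hlt⟩ := base_ok ⟨j, hj⟩
  rw [wG, FreeGroup.reduce.exact h, ← wG, wG_substU, wG, FreeGroup.mk_toWord]
  refine extra_one ?_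
  rw [List.getD_eq_getElem _ _ hlt]
  exact List.getElem_mem _

theorem prod_flat : ∀ (ps : List (List (Gen × Bool))) (last : List (Gen × Bool)),
    wG ((ps ++ [last]).flatMap fun p => (Gen.u, true) :: p) =
      gU * (ps.map fun p => wG p * gU).prod * wG last
  | [], last => by
    rw [List.nil_append, List.flatMap_singleton, wG_cons, List.map_nil, List.prod_nil, mul_one]
    rfl
  | p :: ps, last => by
    rw [List.cons_append, List.flatMap_cons, wG_append, prod_flat ps last, wG_cons,
      List.map_cons, List.prod_cons, show wG [(Gen.u, true)] = gU from rfl]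
    simp only [mul_assoc]

theorem rel_shape : rules.nRel = 23 ∧ ∀ r, r < 23 →
    rules.relHd r = 1 ∧ tab.okWord (rules.relTl r) = true ∧
    (relSplit.getD r (0, 0, [])).1 < 6 ∧
    (∀ m, m < rules.relLen r → rules.relT r m = 1 ∧ tab.okWord (rules.relW r m) = true ∧
      ((relSplit.getD r (0, 0, [])).2.2.getD m []).all (fun x => decide (x.1 ≠ Gen.u)) = true ∧
      (tab.okWord (rules.relW r m) && okL (((relSplit.getD r (0, 0, [])).2.2.getD m []).map gCode) &&
        Nat.beq (tab.app tab.base (rules.relW r m))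
          (tupOf (((relSplit.getD r (0, 0, [])).2.2.getD m []).map gCode))) = true) ∧
    (relSplit.getD r (0, 0, [])).2.2 =
      (List.range (rules.relLen r)).map (fun m => (relSplit.getD r (0, 0, [])).2.2.getD m []) ++
        [(relSplit.getD r (0, 0, [])).2.2.getD (rules.relLen r) []] ∧
    ((relSplit.getD r (0, 0, [])).2.2.getD (rules.relLen r) []).all (fun x => decide (x.1 ≠ Gen.u)) = true ∧
    (tab.okWord (rules.relTl r) &&
      okL ((FreeGroup.invRev ((relSplit.getD r (0, 0, [])).2.2.getD (rules.relLen r) [])).map gCode) &&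
      Nat.beq (tab.app tab.base (rules.relTl r))
        (tupOf ((FreeGroup.invRev ((relSplit.getD r (0, 0, [])).2.2.getD (rules.relLen r) [])).map gCode))) = true ∧
    ((relSplit.getD r (0, 0, [])).2.2.flatMap fun p => (Gen.u, true) :: p) =
      (baseWords.getD (relSplit.getD r (0, 0, [])).1 []).rotate (relSplit.getD r (0, 0, [])).2.1 := by
  decide +kernel

theorem rotate_one (w : List (Gen × Bool)) (i : Nat) (h : wG w = 1) : wG (w.rotate i) = 1 := by
  have hp : ∀ v : List (Gen × Bool), wG v = (v.map fun x => wG [x]).prod := by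
    intro v
    induction v with
    | nil => exact wG_nil
    | cons x v ih => rw [wG_cons, ih, List.map_cons, List.prod_cons]
  rw [hp, List.map_rotate]
  exact List.prod_rotate_eq_one_of_prod_eq_one (by rw [← hp]; exact h) i

/-- The rules and relators hold. -/
theorem sound : rules.Sound (model.toModel iota) gT := by
  have hv : ∀ w, val (model.toModel iota).lv w = iota (model.el w) := fun w => model.el_val iota w
  constructor
  · rfl
  · intro τ hτ
    change τ < 3 at hτ
    interval_cases τ
    · exact ⟨by decide +kernel, by rw [show rules.invT 0 = 0 by decide +kernel]; simp [gT]⟩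
    · exact ⟨by decide +kernel, by rw [show rules.invT 1 = 2 by decide +kernel]; simp [gT]⟩
    · exact ⟨by decide +kernel, by rw [show rules.invT 2 = 1 by decide +kernel]; simp [gT]⟩
  · intro σ τ hσ hτ h
    change σ < 3 at hσ
    change τ < 3 at hτ
    interval_cases σ <;> interval_cases τ
    · exact ⟨by decide +kernel, by rw [show rules.mulT 0 0 - 1 = 0 by decide +kernel]; simp [gT]⟩
    · exact ⟨by decide +kernel, by rw [show rules.mulT 0 1 - 1 = 1 by decide +kernel]; simp [gT]⟩
    · exact ⟨by decide +kernel, by rw [show rules.mulT 0 2 - 1 = 2 by decide +kernel]; simp [gT]⟩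
    · exact ⟨by decide +kernel, by rw [show rules.mulT 1 0 - 1 = 1 by decide +kernel]; simp [gT]⟩
    · exact absurd (by decide +kernel) h
    · exact ⟨by decide +kernel, by rw [show rules.mulT 1 2 - 1 = 0 by decide +kernel]; simp [gT]⟩
    · exact ⟨by decide +kernel, by rw [show rules.mulT 2 0 - 1 = 2 by decide +kernel]; simp [gT]⟩
    · exact ⟨by decide +kernel, by rw [show rules.mulT 2 1 - 1 = 0 by decide +kernel]; simp [gT]⟩
    · exact absurd (by decide +kernel) h
  · intro r hr
    rw [rule_shape.1] at hr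
    obtain ⟨hS, hD, hs, hd, hu, hv', eu, ev⟩ := rule_shape.2 r hr
    refine ⟨hS ▸ hs, hD ▸ hd, hu, hv', ?_⟩
    rw [hv, hv, hS, hD, el_eq_ql eu, el_eq_ql ev]
    exact rule_eq hr
  · intro r hr
    rw [rel_shape.1] at hr
    obtain ⟨hh, htl, hj, hW, hsplit, hlastu, etl, hflat⟩ := rel_shape.2 r hr
    refine ⟨by rw [hh]; decide, htl, fun m hm => ⟨by rw [(hW m hm).1]; decide, (hW m hm).2.1⟩, ?_⟩
    have h1 := rotate_one _ (relSplit.getD r (0, 0, [])).2.1 (base_one hj)
    rw [← hflat, hsplit, prod_flat, List.map_map] at h1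
    rw [hv, el_eq_ql etl, hh]
    have hlast : ∀ x ∈ FreeGroup.invRev ((relSplit.getD r (0, 0, [])).2.2.getD (rules.relLen r) []),
        x.1 ≠ Gen.u := by
      intro x hx
      simp only [FreeGroup.invRev, List.mem_reverse, List.mem_map] at hx
      obtain ⟨y, hy, rfl⟩ := hx
      exact of_decide_eq_true (List.all_eq_true.1 hlastu y hy)
    rw [← wG_ql _ hlast, show wG (FreeGroup.invRev _) =
      (wG ((relSplit.getD r (0, 0, [])).2.2.getD (rules.relLen r) []))⁻¹ from by
        rw [wG, wG, ← map_inv, FreeGroup.inv_mk], ← eq_inv_of_mul_eq_one_left h1]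
    show gU * _ = gU * _
    congr 2
    refine List.map_congr_left fun m hm => ?_
    obtain ⟨ht, -, hu, ew⟩ := hW m (List.mem_range.1 hm)
    rw [ht, hv, el_eq_ql ew, Function.comp,
      wG_ql _ fun x hx => of_decide_eq_true (List.all_eq_true.1 hu x hx)]
    rfl

theorem gen_group :
    Subgroup.closure (Set.range iota ∪ {x | ∃ t, t < rules.nT ∧ x = gT t}) = ⊤ := by
  rw [eq_top_iff, ← PresentedGroup.closure_range_of, Subgroup.closure_le]
  rintro _ ⟨g, rfl⟩
  by_cases hg : g = Gen.u
  · subst hg
    exact Subgroup.subset_closure (Or.inr ⟨1, by decide, rfl⟩)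
  · exact Subgroup.subset_closure (Or.inl ⟨_, (gen_eq g hg).symm⟩)

end Cfsg.Agent.DCoset.Th
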