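import Cfsg.Agent.DCoset.WalkOrbits
import Cfsg.Agent.DCoset.Th.Cert
import Cfsg.Agent.DCoset.Th.Sound

/-!
The subgroup on `a, b, c, d, e, s, t` of the presented Thompson group has index at most 143127000.
-/

set_option autoImplicit false
set_option maxRecDepth 100000

namespace Cfsg.Agent.DCoset.Th

open Cfsg.Agent.DCoset Cfsg.Agent.CosetCert
open Cfsg.Spor.Th (Gen)

theorem valid_model : cover.Valid steps rules model.toTab 634023936 := valid

theorem gen_model : Subgroup.closure {x | ∃ g, g < cover.nG ∧ x = model.q g} = ⊤ := qB_top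

theorem facts : ∀ s, s < steps.len → steps.Holds rules (model.toModel iota) iota.range gT s :=
  Steps.holds sound (fun g _ => ⟨model.q g, rfl⟩) node_src (show 0 < 3 by omega) steps_ok

theorem index_le : iota.range.index ≠ 0 ∧ iota.range.index ≤ 143127000 := by
  have := hgroup_card.1
  have h := WalkCover.index_le iota gT hgroup_card.2 gen_model gen_group sound valid_model facts
  rwa [idx_sum] at h

theorem card_range_le : Finite iota.range ∧ Nat.card iota.range ≤ 634023936 := by
  have := hgroup_card.1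
  exact ⟨Finite.of_surjective _ iota.rangeRestrict_surjective,
    (Nat.card_le_card_of_surjective _ iota.rangeRestrict_surjective).trans hgroup_card.2⟩

theorem th_finite : Finite GTh ∧ Nat.card GTh ≤ 90745943887872000 := by
  obtain ⟨hne, hle⟩ := index_le
  obtain ⟨hfin, hc⟩ := card_range_le
  have hmul := iota.range.card_mul_index
  have hpos : 0 < Nat.card iota.range := Nat.card_pos
  refine ⟨(Nat.card_ne_zero.1 (by rw [← hmul]; exact Nat.mul_ne_zero (by omega) hne)).2, ?_⟩
  rw [← hmul]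
  exact le_trans (Nat.mul_le_mul hc hle) (by norm_num)

/-- The subgroup of S1706 is the image of the subgroup model. -/
theorem sub_eq_range :
    ((Subgroup.closure ({Spor.Th.a, Spor.Th.b, Spor.Th.c, Spor.Th.d, Spor.Th.e, Spor.Th.s,
      Spor.Th.t} : Set (FreeGroup Gen))).map (PresentedGroup.mk thRels)) = iota.range := by
  rw [MonoidHom.range_eq_map, ← PresentedGroup.closure_range_of, MonoidHom.map_closure,
    MonoidHom.map_closure]
  congr 1
  ext g
  constructor
  · rintro ⟨w, hw, rfl⟩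
    simp only [Set.mem_insert_iff, Set.mem_singleton_iff] at hw
    rcases hw with rfl | rfl | rfl | rfl | rfl | rfl | rfl
    exacts [⟨_, ⟨0, rfl⟩, iota_of 0⟩, ⟨_, ⟨1, rfl⟩, iota_of 1⟩, ⟨_, ⟨2, rfl⟩, iota_of 2⟩,
      ⟨_, ⟨3, rfl⟩, iota_of 3⟩, ⟨_, ⟨4, rfl⟩, iota_of 4⟩, ⟨_, ⟨5, rfl⟩, iota_of 5⟩,
      ⟨_, ⟨6, rfl⟩, iota_of 6⟩]
  · rintro ⟨_, ⟨b, rfl⟩, rfl⟩
    refine ⟨FreeGroup.of (genOf b), ?_, (iota_of b).symm⟩
    fin_cases b <;> simp [genOf]

end Cfsg.Agent.DCoset.Th
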