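import Cfsg.Prelude.Def_Classification2
import Cfsg.Agent.DCoset.Th.Main
import Cfsg.Agent.DCoset.Th.HNormal
import Cfsg.Agent.IndexSimple

/-!
The presented Thompson group is simple of order 90745943887872000 as soon as its order is at least
that: then the bound of the double coset enumeration is attained, a normal subgroup meeting
`<a, b, c, d, e, s, t>` trivially would have order a sum of suborbit lengths dividing the index,
and a normal complement is excluded by `t ^ u = t⁻¹`.
-/

set_option autoImplicit false
set_option maxRecDepth 100000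

namespace Cfsg.Agent.DCoset.Th

open Cfsg.Agent.DCoset Cfsg.Agent.CosetCert
open Cfsg.Spor.Th (Gen)

/-- The hypothesis: the group is not too small. -/
abbrev Big : Prop := 90745943887872000 ≤ Nat.card GTh

theorem exact_of_big (h : Big) :
    Nat.card GTh = 90745943887872000 ∧ iota.range.index = 143127000 ∧
      Nat.card iota.range = 634023936 ∧ Function.Injective iota := by
  have := hgroup_card.1
  obtain ⟨hfin, hle⟩ := th_finite
  obtain ⟨hne, hidx⟩ := index_le
  obtain ⟨-, hc⟩ := card_range_le
  have hmul := iota.range.card_mul_index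
  have hN : Nat.card GTh = 90745943887872000 := le_antisymm hle h
  rw [hN] at hmul
  have hi : iota.range.index = 143127000 := by
    refine le_antisymm hidx (Nat.le_of_mul_le_mul_left ?_ (show 0 < 634023936 by norm_num))
    calc 634023936 * 143127000 = Nat.card iota.range * iota.range.index := by rw [hmul]
      _ ≤ 634023936 * iota.range.index := Nat.mul_le_mul_right _ hc
  have hH : Nat.card iota.range = 634023936 := by
    rw [hi] at hmul
    exact Nat.eq_of_mul_eq_mul_right (show 0 < 143127000 by norm_num) (by rw [hmul])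
  refine ⟨hN, hi, hH, ?_⟩
  have hb := (Nat.bijective_iff_surjective_and_card iota.rangeRestrict).2
    ⟨iota.rangeRestrict_surjective, by rw [hH, hgroup_card_eq]⟩
  exact fun x y hxy => hb.1 (Subtype.ext hxy)

/-- The suborbits, their lengths and the exact stabilisers. -/
theorem orbits_of_big (h : Big) :
    ∃ (pt : Fin cover.nLive → GTh ⧸ iota.range) (label : GTh ⧸ iota.range → Fin cover.nLive),
      (∀ q z, label (iota q • z) = label z) ∧ (∀ z, ∃ q : HGroup, z = iota q • pt (label z)) ∧
      (∀ m, Nat.card {z // label z = m} = cover.idx m) ∧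
      (∀ m, Nat.card ↥((MulAction.stabilizer GTh (pt m)).comap iota) * cover.idx m = Nat.card HGroup) ∧
      (∀ m : Fin cover.nLive, (m : Nat) = 0 → pt m = QuotientGroup.mk 1) ∧
      (∀ m : Fin cover.nLive,
        pt m = QuotientGroup.mk (Steps.rep steps (model.toModel iota) gT (cover.live m))⁻¹) := by
  have := hgroup_card.1
  exact WalkCover.orbits iota gT hgroup_card.2 gen_model gen_group sound valid_model facts
    (le_of_eq (idx_sum.trans (exact_of_big h).2.1.symm))

/-- A normal subgroup meeting the subgroup nontrivially is everything. -/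
theorem normal_top (M : Subgroup GTh) [M.Normal] (hM : M ⊓ iota.range ≠ ⊥) : M = ⊤ := by
  have hN : M.comap iota ≠ ⊥ := by
    intro h0
    refine hM ((Subgroup.eq_bot_iff_forall _).2 ?_)
    rintro _ ⟨hz, q, rfl⟩
    have : q ∈ M.comap iota := hz
    rw [h0, Subgroup.mem_bot] at this
    rw [this, map_one]
  have hmem : ∀ g, g < 6 → iota (ql [g]) ∈ M := fun g hg => normal_contains (M.comap iota) hN g hg
  let π := QuotientGroup.mk' M
  have hone : ∀ {x}, x ∈ M → π x = 1 := fun {x} hx => (QuotientGroup.eq_one_iff x).2 hx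
  have hac : π (iota (ql [0, 2])) = 1 := by
    rw [show ql [0, 2] = ql [0] * ql [2] from ql_append [0] [2], map_mul, map_mul,
      hone (hmem 0 (by omega)), hone (hmem 2 (by omega)), one_mul]
  have hs : π (PresentedGroup.of Gen.s) = 1 := by
    rw [gen_eq .s (by decide)]
    exact hone (hmem 5 (by omega))
  have hu2 : π gU * π gU = 1 := by rw [← map_mul, u_sq, hac]
  have hu : π gU = 1 := by
    have h : PresentedGroup.mk thRels ((Spor.Th.a * Spor.Th.c) * (((Spor.Th.u * Spor.Th.s) ^ 3)⁻¹)) = 1 :=
      extra_one (by decide +kernel)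
    have h' := congrArg π h
    simp only [map_mul, map_inv, map_pow, map_one] at h'
    change π (PresentedGroup.of Gen.a) * π (PresentedGroup.of Gen.c) *
      ((π gU * π (PresentedGroup.of Gen.s)) ^ 3)⁻¹ = 1 at h'
    rw [gen_eq .a (by decide), gen_eq .c (by decide),
      show π (iota (ql [gCode (Gen.a, true)])) = 1 from hone (hmem 0 (by omega)),
      show π (iota (ql [gCode (Gen.c, true)])) = 1 from hone (hmem 2 (by omega)), hs] at h'
    simp only [mul_one, one_mul] at h'
    rw [inv_eq_one, pow_succ, sq, hu2, one_mul] at h'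
    exact h'
  have ht : π (iota (ql [6])) = 1 := by
    have h := congrArg π u_t
    rw [map_mul, map_mul, hu, one_mul, mul_one] at h
    have h3 : π (iota (ql [6])) * π (iota (ql [6])) * π (iota (ql [6])) = 1 := by
      rw [← map_mul, ← map_mul, ← map_mul, ← map_mul, ← ql_append, ← ql_append,
        ql_eq (m := []) (by decide +kernel)]
      simp [ql]
    have h8 : π (iota (ql [8])) * π (iota (ql [6])) = 1 := by
      rw [← map_mul, ← map_mul, ← ql_append, ql_eq (m := []) (by decide +kernel)]
      simp [ql]
    rw [h] at h8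
    rwa [h8, one_mul] at h3
  have hall : ∀ x : GTh, π x = 1 := by
    intro x
    have hx : x ∈ (⊤ : Subgroup GTh) := trivial
    rw [← PresentedGroup.closure_range_of] at hx
    refine (MonoidHom.mem_ker (f := π)).1 ((Subgroup.closure_le π.ker).2 ?_ hx)
    rintro _ ⟨g, rfl⟩
    refine (MonoidHom.mem_ker (f := π)).2 ?_
    by_cases hg : g = Gen.u
    · subst hg; exact hu
    rw [gen_eq g hg]
    cases g
    · exact hone (hmem 0 (by omega))
    · exact hone (hmem 1 (by omega))
    · exact hone (hmem 2 (by omega))
    · exact hone (hmem 3 (by omega))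
    · exact hone (hmem 4 (by omega))
    · exact hone (hmem 5 (by omega))
    · exact ht
    · exact absurd rfl hg
  exact eq_top_iff.2 fun x _ => (QuotientGroup.eq_one_iff x).1 (hall x)

/-- Which sums of suborbit lengths, the trivial one included, divide the index. -/
theorem sum_cases : ∀ e : Fin 1024,
    1 + (((List.range 10).filter fun i => e.val.testBit i).map fun i => cover.idx (i + 1)).sum = 1 ∨
    1 + (((List.range 10).filter fun i => e.val.testBit i).map fun i => cover.idx (i + 1)).sum = 143127000 ∨
    ¬ (1 + (((List.range 10).filter fun i => e.val.testBit i).map fun i => cover.idx (i + 1)).sum) ∣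
      143127000 := by
  decide +kernel

theorem idx_zero : cover.idx 0 = 1 := by decide +kernel

theorem bits_surj : ∀ f : Fin 10 → Bool, ∃ e : Fin 1024, ∀ i : Fin 10, e.val.testBit i.val = f i := by
  intro f
  refine ⟨⟨Nat.ofBits f, Nat.ofBits_lt_two_pow f⟩, fun i => ?_⟩
  simp [Nat.testBit_ofBits]

/-- A nontrivial exponent of `t` modulo three. -/
def chiGen (b : Fin 7) : Multiplicative (ZMod 3) := Multiplicative.ofAdd (if b = 6 then 1 else 0)

theorem chi_rels : ∀ l ∈ HRels,
    (l.map fun a => cond a.2 (chiGen a.1) (chiGen a.1)⁻¹).prod = 1 := by decide +kernel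

/-- The map onto the group of order three. -/
def chi : HGroup →* Multiplicative (ZMod 3) :=
  PresentedGroup.toGroup (f := chiGen) fun r hr => by
    obtain ⟨l, hl, rfl⟩ := List.mem_map.1 hr
    rw [FreeGroup.lift_mk]
    exact chi_rels l hl

theorem chi_ne : chi (ql [8]) ≠ chi (ql [6]) := by
  have h6 : chi (ql [6]) = Multiplicative.ofAdd 1 := by
    rw [show ql [6] = PresentedGroup.of (6 : Fin 7) by simp [ql, qL, letWord, qB] <;> rfl, chi,
      PresentedGroup.toGroup.of]
    rfl
  have h8 : chi (ql [8]) = (Multiplicative.ofAdd 1)⁻¹ := by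
    rw [← h6, eq_inv_iff_mul_eq_one, ← map_mul, ← ql_append, ql_eq (m := []) (by decide +kernel)]
    simp [ql]
  rw [h6, h8]
  decide

theorem simple_of_big (h : Big) : IsSimpleGroup GTh := by
  classical
  obtain ⟨hN, hi, hH, hinj⟩ := exact_of_big h
  obtain ⟨pt, label, hinv, hreach, hcard, -, hpt0, -⟩ := orbits_of_big h
  have := th_finite.1
  have := hgroup_card.1
  haveI : Nontrivial GTh := Finite.one_lt_card_iff_nontrivial.1 (by rw [hN]; norm_num)
  refine ⟨fun M hMn => ?_⟩
  by_cases hMH : M ⊓ iota.range = ⊥
  swap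
  · exact Or.inr (normal_top M hMH)
  have hdvd : Nat.card M ∣ 143127000 :=
    hi ▸ IndexSimple.card_dvd_index_of_inf_eq_bot iota.range M hMH
  -- the image of `M` among the cosets
  let S : Set (GTh ⧸ iota.range) := Set.range fun m : M => (QuotientGroup.mk (m : GTh))
  have hSM : Nat.card S = Nat.card M := by
    refine (Nat.card_congr (Equiv.ofInjective _ fun x y hxy => ?_)).symm
    have hxy' := QuotientGroup.eq.1 hxy
    have : (x : GTh)⁻¹ * y ∈ M ⊓ iota.range := ⟨M.mul_mem (M.inv_mem x.2) y.2, hxy'⟩
    rw [hMH, Subgroup.mem_bot, inv_mul_eq_one] at this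
    exact Subtype.ext this
  have hSinv : ∀ q, ∀ z ∈ S, iota q • z ∈ S := by
    rintro q _ ⟨m, rfl⟩
    refine ⟨⟨iota q * m * (iota q)⁻¹, hMn.conj_mem _ m.2 _⟩, ?_⟩
    show (QuotientGroup.mk _ : GTh ⧸ iota.range) = QuotientGroup.mk (iota q * m)
    rw [QuotientGroup.eq]
    refine ⟨q, ?_⟩
    group
  have hfib : ∀ z, z ∈ S ↔ pt (label z) ∈ S := by
    intro z
    obtain ⟨q, hq⟩ := hreach z
    constructor
    · intro hz
      have := hSinv q⁻¹ _ hz
      rwa [hq, map_inv, inv_smul_smul] at this
    · intro hz
      rw [hq]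
      exact hSinv q _ hz
  have h0 : pt ⟨0, by decide⟩ ∈ S := by
    rw [hpt0 _ rfl]
    exact ⟨1, rfl⟩
  have hsum : Nat.card S = ∑ l : Fin cover.nLive, if pt l ∈ S then cover.idx l else 0 := by
    rw [Nat.card_congr ((Equiv.subtypeEquivRight hfib).trans
      (Equiv.sigmaSubtypeFiberEquivSubtype label (p := fun z => pt (label z) ∈ S)
        (q := fun l => pt l ∈ S) fun z => Iff.rfl).symm), Nat.card_sigma]
    simp_rw [hcard]
    exact (Finset.sum_subtype (Finset.univ.filter fun l => pt l ∈ S) (by simp)
      fun l => cover.idx l).symm.trans (Finset.sum_filter _ _)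
  obtain ⟨e, he⟩ := bits_surj fun i => decide (pt ⟨i.val + 1, Nat.succ_lt_succ i.2⟩ ∈ S)
  have hval : Nat.card M =
      1 + (((List.range 10).filter fun i => e.val.testBit i).map fun i => cover.idx (i + 1)).sum := by
    rw [← hSM, hsum]
    refine (Fin.sum_univ_succ (n := 10) _).trans ?_
    refine congrArg₂ (· + ·) ((if_pos h0).trans idx_zero) ?_
    rw [← List.map_coe_finRange_eq_range, List.filter_map, List.map_map,
      ← List.sum_toFinset _ ((List.nodup_finRange 10).filter _)]
    rw [← Finset.sum_filter]
    refine Finset.sum_congr ?_ fun i _ => rfl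
    ext i
    simp [he i, Fin.succ]
    exact Iff.rfl
  rcases sum_cases e with h1 | h1 | h1
  · exact Or.inl (Subgroup.card_eq_one.1 (hval.trans h1))
  · exfalso
    have hcardM : Nat.card M = 143127000 := hval.trans h1
    have hinjq : Function.Injective ((QuotientGroup.mk' M).comp iota) := by
      rw [← MonoidHom.ker_eq_bot_iff, Subgroup.eq_bot_iff_forall]
      intro q hq
      have : iota q ∈ M ⊓ iota.range := ⟨(QuotientGroup.eq_one_iff _).1 hq, q, rfl⟩
      rw [hMH, Subgroup.mem_bot] at this
      exact hinj (this.trans (map_one _).symm)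
    have hbij : Function.Bijective ((QuotientGroup.mk' M).comp iota) := by
      refine (Nat.bijective_iff_injective_and_card _).2 ⟨hinjq, ?_⟩
      have hm := M.card_mul_index
      rw [hcardM, hN] at hm
      rw [hgroup_card_eq, ← Subgroup.index_eq_card]
      omega
    let φ : GTh →* Multiplicative (ZMod 3) :=
      (chi.comp (MulEquiv.ofBijective _ hbij).symm.toMonoidHom).comp (QuotientGroup.mk' M)
    have hφ : ∀ q, φ (iota q) = chi q := fun q =>
      congrArg chi ((MulEquiv.ofBijective _ hbij).symm_apply_apply q)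
    have e := congrArg φ u_t
    rw [map_mul, map_mul, hφ, hφ, mul_comm (chi (ql [6]))] at e
    exact chi_ne (mul_left_cancel e)
  · exact absurd (hval ▸ hdvd) h1

theorem isTh_of_big (h : Big) : Cfsg.IsTh Cfsg.Spor.Th := ⟨simple_of_big h, (exact_of_big h).1⟩

end Cfsg.Agent.DCoset.Th
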